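import Cfsg.Agent.Lib.SmithTyrer56.Main
import Cfsg.Agent.Lib.Balance.PLayer
import Cfsg.Prelude.Def_Transfer
import Cfsg.Prelude.Def_Local

/-!
# Passing to `G / O_{p'}(G)`
-/

set_option autoImplicit false
set_option linter.style.haveILetI false

namespace Cfsg.Agent.Lib.SmithTyrer56

universe u

variable {G : Type u} [Group G] [Finite G] {p : ℕ} [hp : Fact p.Prime]

/-- With index two and no proper `p`-residual, some element inverts the abelian Sylow subgroup. -/
theorem exists_inverting (hp2 : p ≠ 2) (P : Sylow p G)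
    (hcomm : ∀ x ∈ (P : Subgroup G), ∀ y ∈ (P : Subgroup G), x * y = y * x)
    (hidx : ((Subgroup.centralizer ((P : Subgroup G) : Set G)).subgroupOf
      (Subgroup.normalizer ((P : Subgroup G) : Set G))).index = 2)
    (hres : Cfsg.pResidual p G = ⊤) :
    (∃ n : G, ∀ x ∈ (P : Subgroup G), n * x * n⁻¹ = x⁻¹) ∧
    ∀ m ∈ Subgroup.normalizer ((P : Subgroup G) : Set G),
      (∀ x ∈ (P : Subgroup G), m * x * m⁻¹ = x) ∨ ∀ x ∈ (P : Subgroup G), m * x * m⁻¹ = x⁻¹ := by
  set N := Subgroup.normalizer ((P : Subgroup G) : Set G) with hN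
  set Cn := (Subgroup.centralizer ((P : Subgroup G) : Set G)).subgroupOf N with hC
  haveI : IsMulCommutative (P : Subgroup G) :=
    ⟨⟨fun a b => Subtype.ext (hcomm a a.2 b b.2)⟩⟩
  have hfix : ∀ m : N, m ∈ Cn → ∀ x ∈ (P : Subgroup G), (m : G) * x * (m : G)⁻¹ = x := by
    intro m hm x hx
    rw [hC, Subgroup.mem_subgroupOf, Subgroup.mem_centralizer_iff] at hm
    rw [mul_inv_eq_iff_eq_mul]
    exact (hm x hx).symm
  obtain ⟨n, hn⟩ : ∃ n : N, n ∉ Cn := by
    by_contra h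
    push Not at h
    rw [(eq_top_iff.2 fun m _ => h m : Cn = ⊤), Subgroup.index_top] at hidx
    omega
  have hsq : ∀ m : N, m * m ∈ Cn := fun m => Subgroup.mul_self_mem_of_index_two hidx m
  have hrel : ∀ m : N, m ∉ Cn → n⁻¹ * m ∈ Cn := fun m hm => by
    rw [Subgroup.mul_mem_iff_of_index_two hidx, inv_mem_iff]
    exact iff_of_false hn hm
  -- fixed points of `n` are trivial
  have hfpf : ∀ x ∈ (P : Subgroup G), (n : G) * x * (n : G)⁻¹ = x → x = 1 := by
    intro x hx hnx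
    have hN' : ∀ m ∈ N, m * x * m⁻¹ = x := fun m hm => by
      by_cases h : (⟨m, hm⟩ : N) ∈ Cn
      · exact hfix ⟨m, hm⟩ h x hx
      · have h2 := hfix _ (hrel ⟨m, hm⟩ h) x hx
        rw [Subgroup.coe_mul, Subgroup.coe_inv] at h2
        calc m * x * m⁻¹
            = (n : G) * ((n : G)⁻¹ * m * x * ((n : G)⁻¹ * m)⁻¹) * (n : G)⁻¹ := by group
          _ = x := by rw [h2, hnx]
    have key : ∀ (k : ℕ) (g₀ : G), g₀⁻¹ * x ^ k * g₀ ∈ (P : Subgroup G) →
        g₀⁻¹ * x ^ k * g₀ = x ^ k := by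
      intro k g₀ hk
      obtain ⟨m, hm, e⟩ := P.conj_eq_normalizer_conj_of_mem (x ^ k) g₀ (pow_mem hx k) hk
      rw [e]
      have h1 := hN' m⁻¹ (inv_mem hm)
      rw [inv_inv] at h1
      calc m⁻¹ * x ^ k * m = m⁻¹ * x ^ k * (m⁻¹)⁻¹ := by rw [inv_inv]
        _ = (m⁻¹ * x * (m⁻¹)⁻¹) ^ k := conj_pow.symm
        _ = x ^ k := by rw [inv_inv, h1]
    letI : CommGroup ↥(P : Subgroup G) :=
      { (inferInstance : Group ↥(P : Subgroup G)) with
        mul_comm := fun a b => Subtype.ext (hcomm a a.2 b b.2) }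
    set f : G →* ↥(P : Subgroup G) := MonoidHom.transfer (MonoidHom.id ↥(P : Subgroup G))
    have hf : f x = 1 := by
      have hle : Cfsg.pResidual p G ≤ f.ker := by
        rw [Cfsg.pResidual, Subgroup.closure_le]
        intro g hg
        obtain ⟨k, hk⟩ := P.2 (f g)
        rw [SetLike.mem_coe, MonoidHom.mem_ker, ← orderOf_eq_one_iff]
        exact Nat.eq_one_of_dvd_coprimes (Nat.Coprime.pow_left k hg.symm)
          (orderOf_dvd_of_pow_eq_one hk) (orderOf_map_dvd f g)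
      exact hle (hres ▸ Subgroup.mem_top x)
    rw [show f x = _ from MonoidHom.transfer_eq_pow _ x key] at hf
    have h1 : x ^ (P : Subgroup G).index = 1 := congrArg Subtype.val hf
    obtain ⟨k, hk⟩ := P.2 ⟨x, hx⟩
    have hk' : x ^ p ^ k = 1 := by simpa using congrArg Subtype.val hk
    exact orderOf_eq_one_iff.1 (Nat.eq_one_of_dvd_coprimes
      ((hp.out.coprime_iff_not_dvd.2 P.not_dvd_index).pow_left k)
      (orderOf_dvd_of_pow_eq_one hk') (orderOf_dvd_of_pow_eq_one h1))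
  have hinv : ∀ x ∈ (P : Subgroup G), (n : G) * x * (n : G)⁻¹ = x⁻¹ := by
    intro x hx
    have hnx : (n : G) * x * (n : G)⁻¹ ∈ (P : Subgroup G) :=
      (Subgroup.mem_normalizer_iff.1 n.2 x).1 hx
    have h2 := hfix _ (hsq n) x hx
    rw [Subgroup.coe_mul] at h2
    have h3 : (n : G) * ((n : G) * x * (n : G)⁻¹) * (n : G)⁻¹ = x := by
      calc _ = (n : G) * n * x * ((n : G) * n)⁻¹ := by group
        _ = x := h2
    have h4 := hfpf _ (mul_mem hnx hx) (by
      calc (n : G) * ((n : G) * x * (n : G)⁻¹ * x) * (n : G)⁻¹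
          = ((n : G) * ((n : G) * x * (n : G)⁻¹) * (n : G)⁻¹) * ((n : G) * x * (n : G)⁻¹) := by group
        _ = x * ((n : G) * x * (n : G)⁻¹) := by rw [h3]
        _ = _ := hcomm x hx _ hnx)
    exact eq_inv_of_mul_eq_one_left h4
  refine ⟨⟨n, hinv⟩, fun m hm => ?_⟩
  by_cases h : (⟨m, hm⟩ : N) ∈ Cn
  · exact Or.inl (hfix ⟨m, hm⟩ h)
  · refine Or.inr fun x hx => ?_
    have h2 := hfix _ (hrel ⟨m, hm⟩ h) x hx
    rw [Subgroup.coe_mul, Subgroup.coe_inv] at h2
    calc m * x * m⁻¹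
        = (n : G) * ((n : G)⁻¹ * m * x * ((n : G)⁻¹ * m)⁻¹) * (n : G)⁻¹ := by group
      _ = x⁻¹ := by rw [h2, hinv x hx]

/-- The `p`-length is at most one. -/
theorem pLength_le_one (hp2 : p ≠ 2) (P : Sylow p G)
    (hcomm : ∀ x ∈ (P : Subgroup G), ∀ y ∈ (P : Subgroup G), x * y = y * x)
    (hnc : ¬ IsCyclic (P : Subgroup G))
    (hinv : ∃ n : G, ∀ x ∈ (P : Subgroup G), n * x * n⁻¹ = x⁻¹)
    (hpm : ∀ m ∈ Subgroup.normalizer ((P : Subgroup G) : Set G),
      (∀ x ∈ (P : Subgroup G), m * x * m⁻¹ = x) ∨ ∀ x ∈ (P : Subgroup G), m * x * m⁻¹ = x⁻¹) :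
    Cfsg.PLengthLE p 1 G := by
  set K := Cfsg.pPrimeCore p G with hKdef
  haveI : K.Normal := Cfsg.pPrimeCore_normal p G
  set π := QuotientGroup.mk' K with hπdef
  have hπ : Function.Surjective π := QuotientGroup.mk'_surjective K
  set P' : Sylow p (G ⧸ K) := P.mapSurjective hπ
  have hP' : ∀ y, y ∈ (P' : Subgroup (G ⧸ K)) ↔ ∃ x ∈ (P : Subgroup G), π x = y := fun y =>
    Subgroup.mem_map
  have hinj : ∀ x ∈ (P : Subgroup G), π x = 1 → x = 1 := by
    intro x hx h
    have hxK : x ∈ K := (QuotientGroup.eq_one_iff x).1 h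
    obtain ⟨k, hk⟩ := P.2 ⟨x, hx⟩
    have hk' : x ^ p ^ k = 1 := by simpa using congrArg Subtype.val hk
    exact orderOf_eq_one_iff.1 (Nat.eq_one_of_dvd_coprimes
      ((Cores.pPrimeCore_coprime (G := G) p).symm.pow_left k)
      (orderOf_dvd_of_pow_eq_one hk') (K.orderOf_dvd_natCard hxK))
  have hS : Setting P' := by
    refine ⟨hp2, ?_, ?_, Cores.pPrimeCore_quotient_pPrimeCore p, ?_, ?_⟩
    · intro a ha b hb
      obtain ⟨x, hx, rfl⟩ := (hP' a).1 ha
      obtain ⟨y, hy, rfl⟩ := (hP' b).1 hb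
      rw [← map_mul, ← map_mul, hcomm x hx y hy]
    · intro hcyc
      refine hnc ?_
      let f : ↥(P : Subgroup G) →* ↥(P' : Subgroup (G ⧸ K)) :=
        (π.comp (P : Subgroup G).subtype).codRestrict _ fun x => (hP' _).2 ⟨x, x.2, rfl⟩
      haveI := hcyc
      refine isCyclic_of_injective f ((injective_iff_map_eq_one f).2 fun x hx => ?_)
      exact Subtype.ext (hinj x x.2 (congrArg Subtype.val hx))
    · obtain ⟨n, hn⟩ := hinv
      refine ⟨π n, fun a ha => ?_⟩
      obtain ⟨x, hx, rfl⟩ := (hP' a).1 ha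
      rw [← map_inv, ← map_mul, ← map_mul, hn x hx, map_inv]
    · intro m' hm'
      have hk : ¬ p ∣ Nat.card π.ker := by
        rw [hπdef, QuotientGroup.ker_mk']
        exact Cores.not_dvd_card_pPrimeCore p
      have e := Balance.map_normalizer_eq hπ hk P.2
      obtain ⟨m, hm, rfl⟩ : m' ∈ (Subgroup.normalizer ((P : Subgroup G) : Set G)).map π := e ▸ hm'
      rcases hpm m hm with h | h
      · left
        intro a ha
        obtain ⟨x, hx, rfl⟩ := (hP' a).1 ha
        rw [← map_inv, ← map_mul, ← map_mul, h x hx]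
      · right
        intro a ha
        obtain ⟨x, hx, rfl⟩ := (hP' a).1 ha
        rw [← map_inv, ← map_mul, ← map_mul, h x hx, map_inv]
  haveI : (P' : Subgroup (G ⧸ K)).Normal := hS.sylow_normal
  -- the upper series
  unfold Cfsg.PLengthLE
  rw [eq_top_iff]
  intro g _
  set U1 := (Cfsg.upperPSeries p G 1).1 with hU1def
  set U2 := (Cfsg.upperPSeries p G 2).1 with hU2def
  haveI : U1.Normal := (Cfsg.upperPSeries p G 1).2
  haveI : U2.Normal := (Cfsg.upperPSeries p G 2).2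
  haveI hU0 : ((Cfsg.upperPSeries p G 0).1).Normal := (Cfsg.upperPSeries p G 0).2
  have hK1 : K ≤ U1 := by
    intro x hx
    show QuotientGroup.mk' (Cfsg.upperPSeries p G 0).1 x ∈
      Cfsg.pPrimeCore p (G ⧸ (Cfsg.upperPSeries p G 0).1)
    exact Cores.map_pPrimeCore_le (p := p) _ (QuotientGroup.mk'_surjective _) ⟨x, hx, rfl⟩
  have hP2 : (P : Subgroup G) ≤ U2 := by
    set π1 := QuotientGroup.mk' U1
    set R := (P : Subgroup G).map π1
    have hR : R = ((P' : Subgroup (G ⧸ K)).comap π).map π1 := by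
      rw [show (P' : Subgroup (G ⧸ K)) = (P : Subgroup G).map π from rfl, Subgroup.comap_map_eq,
        Subgroup.map_sup, hπdef, QuotientGroup.ker_mk',
        (Subgroup.map_eq_bot_iff K).2 (by rw [QuotientGroup.ker_mk']; exact hK1), sup_bot_eq]
    haveI : R.Normal := by
      rw [hR]
      exact Subgroup.Normal.map inferInstance π1 (QuotientGroup.mk'_surjective U1)
    intro x hx
    show π1 x ∈ Cfsg.pCore p (G ⧸ U1)
    exact Cores.le_pCore (P.2.map π1) (Subgroup.mem_map_of_mem π1 hx)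
  show QuotientGroup.mk' U2 g ∈ Cfsg.pPrimeCore p (G ⧸ U2)
  refine Cores.le_pPrimeCore_of_not_dvd (N := (⊤ : Subgroup (G ⧸ U2))) ?_ (Subgroup.mem_top _)
  rw [Nat.card_congr Subgroup.topEquiv.toEquiv, ← Subgroup.index_eq_card]
  exact fun h => P.not_dvd_index (h.trans (Subgroup.index_dvd_of_le hP2))

end Cfsg.Agent.Lib.SmithTyrer56
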