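import Mathlib

/-!
# The arithmetic of the twisted rows
-/

set_option autoImplicit false

namespace Cfsg.Agent.Lib.SmithTyrer56

universe v

/-- The rows force `d = 1`. -/
theorem rows_force {I : Type v} [Fintype I] (al be : I → ℤ) (b : ℕ) (hb : 1 ≤ b) (d : ℤ) (x : ℂ)
    (haa : ∑ i, al i ^ 2 = (b : ℤ) + 1) (hbb : ∑ i, be i ^ 2 = (b : ℤ) + 1)
    (hab : ∑ i, al i * be i = (b : ℤ))
    (hd0 : d ≠ 0) (hd1 : 1 + d ≠ 0)
    (hdeg : ∀ i, (al i ≠ 0 ∨ be i ≠ 0) → al i + be i * d ≠ 0)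
    (hlin : ∀ i, be i = 0 → al i ≠ 1 ∧ al i ≠ -1)
    (hne : x ≠ (d : ℂ))
    (heq : ∑ i, (((b : ℂ) + 1) * (al i : ℂ) - (b : ℂ) * (be i : ℂ)) *
        ((al i : ℂ) + (be i : ℂ) * x) ^ 2 / ((al i : ℂ) + (be i : ℂ) * (d : ℂ)) =
      (b : ℂ) + 1 - (b : ℂ) * x ^ 2 / (d : ℂ) + (b : ℂ) * (1 + x) ^ 2 / (1 + (d : ℂ))) :
    d = 1 := by
  classical
  set g : I → ℤ := fun i => al i - be i
  have hg2 : ∑ i, g i ^ 2 = 2 := by
    simp only [g, sub_sq, Finset.sum_add_distrib, Finset.sum_sub_distrib, mul_assoc,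
      ← Finset.mul_sum, haa, hbb, hab]
    ring
  have hg1 : ∀ i, g i = 0 ∨ g i = 1 ∨ g i = -1 := fun i => by
    have h1 : g i ^ 2 ≤ 2 := hg2 ▸
      Finset.single_le_sum (f := fun j => g j ^ 2) (fun j _ => sq_nonneg _) (Finset.mem_univ i)
    have h2 : g i ≤ 1 := by nlinarith
    have h3 : -1 ≤ g i := by nlinarith
    omega
  set S := Finset.univ.filter fun i => g i ≠ 0
  have hS : S.card = 2 := by
    have : ∑ i, g i ^ 2 = ∑ i, if g i ≠ 0 then (1 : ℤ) else 0 := Finset.sum_congr rfl fun i _ => by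
      rcases hg1 i with h | h | h <;> simp [h]
    rw [this, Finset.sum_boole] at hg2
    exact_mod_cast hg2
  obtain ⟨i1, i2, h12, hSe⟩ := Finset.card_eq_two.1 hS
  have hgi : ∀ i ∈ S, g i = 1 ∨ g i = -1 := fun i hi => by
    have h := (Finset.mem_filter.1 hi).2
    rcases hg1 i with h' | h'
    · exact absurd h' h
    · exact h'
  have hm1 := hgi i1 (by rw [hSe]; simp)
  have hm2 := hgi i2 (by rw [hSe]; simp)
  have hrest : ∀ i ∈ Sᶜ, al i = be i := fun i hi => by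
    simpa [S, g, sub_eq_zero] using hi
  have hsplit : ∀ {R : Type} [AddCommMonoid R] (f : I → R),
      ∑ i, f i = f i1 + f i2 + ∑ i ∈ Sᶜ, f i := fun f => by
    rw [← Finset.sum_add_sum_compl S f, hSe, Finset.sum_pair h12]
  set A := g i1 * al i1
  set A2 := g i2 * al i2
  have hbe1 : g i1 * be i1 = A - 1 := by
    rcases hm1 with h | h <;> simp only [A, g] at h ⊢ <;> nlinarith
  have hbe2 : g i2 * be i2 = A2 - 1 := by
    rcases hm2 with h | h <;> simp only [A2, g] at h ⊢ <;> nlinarith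
  have hs1 : g i1 * g i1 = 1 := by rcases hm1 with h | h <;> simp [h]
  have hs2 : g i2 * g i2 = 1 := by rcases hm2 with h | h <;> simp [h]
  set T : ℤ := ∑ i ∈ Sᶜ, al i ^ 2
  have e1 : A ^ 2 + A2 ^ 2 + T = (b : ℤ) + 1 := by
    rw [← haa, hsplit fun i => al i ^ 2]
    simp only [A, A2, mul_pow, sq, hs1, hs2, one_mul, T]
    linear_combination (al i1 * al i1) * hs1 + (al i2 * al i2) * hs2
  have e2 : A * (A - 1) + A2 * (A2 - 1) + T = (b : ℤ) := by
    rw [← hab, hsplit fun i => al i * be i, ← hbe1, ← hbe2,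
      show ∑ i ∈ Sᶜ, al i * be i = T from Finset.sum_congr rfl fun i hi => by
        rw [← hrest i hi, sq]]
    simp only [A, A2]
    linear_combination (al i1 * be i1) * hs1 + (al i2 * be i2) * hs2
  have hA2 : A2 = 1 - A := by linarith
  have hT : T = (b : ℤ) - 2 * (A * (A - 1)) := by rw [hA2] at e1; linarith
  have hA0 : A * (A - 1) ≠ 0 := by
    intro h
    rcases mul_eq_zero.1 h with h | h
    · have hb2 : be i2 = 0 := by
        have : g i2 * be i2 = 0 := by rw [hbe2, hA2, h]; ring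
        exact (mul_eq_zero.1 this).resolve_left fun e => by rw [e] at hs2; norm_num at hs2
      have := hlin i2 hb2
      have hgi2 : g i2 = al i2 := by simp [g, hb2]
      rcases hm2 with e | e <;> rw [hgi2] at e <;> omega
    · have hb1 : be i1 = 0 := by
        have : g i1 * be i1 = 0 := by rw [hbe1]; exact h
        exact (mul_eq_zero.1 this).resolve_left fun e => by rw [e] at hs1; norm_num at hs1
      have := hlin i1 hb1
      have hgi1 : g i1 = al i1 := by simp [g, hb1]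
      rcases hm1 with e | e <;> rw [hgi1] at e <;> omega
  -- the value of each term
  have hterm : ∀ i (a' : ℤ), g i * g i = 1 → g i * al i = a' → g i * be i = a' - 1 →
      (((b : ℂ) + 1) * (al i : ℂ) - (b : ℂ) * (be i : ℂ)) *
        ((al i : ℂ) + (be i : ℂ) * x) ^ 2 / ((al i : ℂ) + (be i : ℂ) * (d : ℂ)) =
      ((a' : ℂ) + b) * ((a' : ℂ) + ((a' : ℂ) - 1) * x) ^ 2 /
        ((a' : ℂ) + ((a' : ℂ) - 1) * (d : ℂ)) ∧ (a' : ℂ) + ((a' : ℂ) - 1) * (d : ℂ) ≠ 0 := by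
    intro i a' hs ha hc
    have hor : al i ≠ 0 ∨ be i ≠ 0 := by
      by_contra h
      push Not at h
      rw [h.1, mul_zero] at ha
      rw [h.2, mul_zero] at hc
      omega
    have hD : (al i : ℂ) + (be i : ℂ) * (d : ℂ) ≠ 0 := by exact_mod_cast hdeg i hor
    have hal : (al i : ℂ) = (g i : ℂ) * (a' : ℂ) := by
      rw [← ha]; push_cast
      rw [← mul_assoc, show (g i : ℂ) * (g i : ℂ) = 1 by exact_mod_cast hs, one_mul]
    have hbe : (be i : ℂ) = (g i : ℂ) * ((a' : ℂ) - 1) := by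
      have hc' : (g i : ℂ) * (be i : ℂ) = (a' : ℂ) - 1 := by exact_mod_cast hc
      rw [← hc', ← mul_assoc, show (g i : ℂ) * (g i : ℂ) = 1 by exact_mod_cast hs, one_mul]
    rw [hal, hbe] at hD ⊢
    have hD' : (a' : ℂ) + ((a' : ℂ) - 1) * (d : ℂ) ≠ 0 := fun e => hD (by
      linear_combination (g i : ℂ) * e)
    refine ⟨?_, hD'⟩
    rw [div_eq_div_iff hD hD']
    have hs' : (g i : ℂ) * (g i : ℂ) = 1 := by exact_mod_cast hs
    linear_combination ((g i : ℂ) * ((a' : ℂ) + b) * ((a' : ℂ) + ((a' : ℂ) - 1) * x) ^ 2 *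
      ((a' : ℂ) + ((a' : ℂ) - 1) * (d : ℂ))) * hs'
  obtain ⟨t1, n1⟩ := hterm i1 A hs1 rfl hbe1
  obtain ⟨t2, n2⟩ := hterm i2 A2 hs2 rfl hbe2
  have t3 : ∀ i ∈ Sᶜ, (((b : ℂ) + 1) * (al i : ℂ) - (b : ℂ) * (be i : ℂ)) *
      ((al i : ℂ) + (be i : ℂ) * x) ^ 2 / ((al i : ℂ) + (be i : ℂ) * (d : ℂ)) =
      ((al i : ℂ) ^ 2) * ((1 + x) ^ 2 / (1 + (d : ℂ))) := fun i hi => by
    rw [← hrest i hi]
    have h1d : (1 : ℂ) + (d : ℂ) ≠ 0 := by exact_mod_cast hd1
    rcases eq_or_ne (al i) 0 with h | h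
    · simp [h]
    · have hc : (al i : ℂ) ≠ 0 := Int.cast_ne_zero.mpr h
      field_simp
      ring
  rw [hsplit, t1, t2, Finset.sum_congr rfl t3, ← Finset.sum_mul,
    show ∑ i ∈ Sᶜ, (al i : ℂ) ^ 2 = (T : ℂ) by simp [T], hT, hA2] at heq
  rw [hA2] at n2
  push_cast at heq n2
  have hd0' : (d : ℂ) ≠ 0 := Int.cast_ne_zero.mpr hd0
  have hd1' : (1 : ℂ) + (d : ℂ) ≠ 0 := by exact_mod_cast hd1
  have key : ((x - (d : ℂ)) ^ 2) *
      (((A : ℂ) * ((A : ℂ) - 1)) * (1 - (d : ℂ)) * ((b : ℂ) * (1 + (d : ℂ)) + (d : ℂ))) = 0 := by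
    generalize (A : ℂ) = a at heq n1 n2 ⊢
    generalize (d : ℂ) = e at heq n1 n2 hd0' hd1' ⊢
    generalize hD : (1 : ℂ) - a + (1 - a - 1) * e = D at heq n2
    field_simp at heq
    subst hD
    linear_combination -heq
  have hb0 : (b : ℤ) * (1 + d) + d ≠ 0 := by
    intro h
    rcases lt_trichotomy d (-1) with h' | h' | h'
    · nlinarith
    · omega
    · have : 0 ≤ d := by omega
      nlinarith
  rcases mul_eq_zero.1 key with h | h
  · exact absurd (sub_eq_zero.1 (pow_eq_zero_iff two_ne_zero |>.1 h)) hne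
  rcases mul_eq_zero.1 h with h | h
  · rcases mul_eq_zero.1 h with h | h
    · exact absurd (by exact_mod_cast h) hA0
    · exact_mod_cast (sub_eq_zero.1 h).symm
  · exact absurd (by exact_mod_cast h) hb0

end Cfsg.Agent.Lib.SmithTyrer56
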