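import Cfsg.Agent.Lib.SmithTyrer56.Lifts
import Cfsg.Agent.Lib.H80.ClassMult
import Cfsg.Agent.Lib.Blocks.Basic

/-!
# Pairs of involutions in a central extension

No product of two conjugates of an involution is `z * y` with `z` a non-trivial element of the
kernel and `y` regular, so the weighted twisted averages do not depend on the twist.
-/

set_option autoImplicit false
set_option linter.style.haveILetI false

namespace Cfsg.Agent.Lib.SmithTyrer56

open scoped ComplexConjugate
open Cfsg.Agent.Lib.Isometry.Inner Cfsg.Agent.Lib.Characters.Basic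
open Cfsg.Agent.Lib.Induced.Basic (classInner_smul_right)

universe u

/-- When `c` is no product of conjugates of `t` and `t`, the weighted sum at `c⁻¹` is zero. -/
theorem sum_sq_apply_eq_zero {H : Type u} [Group H] [Fintype H]
    [Fintype (Cfsg.IrrCharacter H)] (t c : H)
    (h : ∀ a b : H, a * t * a⁻¹ * (b * t * b⁻¹) ≠ c) :
    ∑ ξ : Cfsg.IrrCharacter H,
      (ξ : H → ℂ) t ^ 2 / (ξ : H → ℂ) 1 * (ξ : H → ℂ) c⁻¹ = 0 := by
  classical
  have hH : (Nat.card H : ℂ) ≠ 0 := Nat.cast_ne_zero.mpr Nat.card_pos.ne'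
  have key : ∀ ξ : Cfsg.IrrCharacter H,
      ∑ a : H, ∑ b : H, (ξ : H → ℂ) 1 * (ξ : H → ℂ) (c⁻¹ * (a * t * a⁻¹) * (b * t * b⁻¹)) =
        (Nat.card H : ℂ) ^ 2 *
          ((ξ : H → ℂ) t ^ 2 / (ξ : H → ℂ) 1 * (ξ : H → ℂ) c⁻¹) := by
    intro ξ
    have h1 := apply_one_ne_zero ξ
    simp only [← Finset.mul_sum, H80.ClassMult.sum_apply_mul_conj, ← Finset.sum_div,
      ← Finset.sum_mul]
    field_simp
  have hz : ∑ ξ : Cfsg.IrrCharacter H, ∑ a : H, ∑ b : H,
      (ξ : H → ℂ) 1 * (ξ : H → ℂ) (c⁻¹ * (a * t * a⁻¹) * (b * t * b⁻¹)) = 0 := by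
    rw [Finset.sum_comm]
    refine Finset.sum_eq_zero fun a _ => ?_
    rw [Finset.sum_comm]
    refine Finset.sum_eq_zero fun b _ => ?_
    rw [Blocks.sum_degree_mul_char, if_neg]
    intro e
    rw [mul_assoc, inv_mul_eq_one] at e
    exact h a b e.symm
  rw [Finset.sum_congr rfl fun ξ _ => key ξ, ← Finset.mul_sum] at hz
  exact (mul_eq_zero.1 hz).resolve_left (pow_ne_zero _ hH)

variable {G : Type u} [Group G] [Finite G] {p : ℕ} [hp : Fact p.Prime]
  {H : Type u} [Group H] [Finite H]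

namespace Cover

variable (C : Cover p G H)

theorem lft_one : C.lft 1 = 1 := by
  rw [← map_one C.π, ← C.rpt_eq_lft]
  exact one_pow _

theorem lft_involution (hp2 : p ≠ 2) {u : G} (hu : orderOf u = 2) : orderOf (C.lft u) = 2 := by
  have hreg : ¬ p ∣ orderOf u := by
    rw [hu]; exact fun h => hp2 ((Nat.prime_dvd_prime_iff_eq hp.out Nat.prime_two).1 h)
  have hπ := C.π_lft_of_regular hreg
  haveI := Fact.mk Nat.prime_two
  refine orderOf_eq_prime ?_ fun e => ?_
  · have hz : C.lft u ^ 2 ∈ C.π.ker := by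
      rw [MonoidHom.mem_ker, map_pow, hπ, ← hu, pow_orderOf_eq_one]
    have h1 := rpt_eq_one_of_ppower (C.ker_pow hz)
    rwa [rpt_eq_self_of_regular fun h => C.lft_regular u (h.trans (orderOf_pow_dvd 2))] at h1
  · rw [e, map_one] at hπ
    rw [← hπ, orderOf_one] at hu
    norm_num at hu

/-- No two conjugates of an involution multiply to a twisted regular element. -/
theorem not_product (hp2 : p ≠ 2) {t : H} (ht : t * t = 1) {z : H} (hz : z ∈ C.π.ker) (hz1 : z ≠ 1)
    (g : G) (a b : H) : a * t * a⁻¹ * (b * t * b⁻¹) ≠ (z * C.lft g)⁻¹ := by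
  intro e
  set A := a * t * a⁻¹ with hA
  set B := b * t * b⁻¹ with hB
  have hA2 : A * A = 1 := by
    rw [hA]; calc a * t * a⁻¹ * (a * t * a⁻¹) = a * (t * t) * a⁻¹ := by group
      _ = 1 := by rw [ht, mul_one, mul_inv_cancel]
  have hB2 : B * B = 1 := by
    rw [hB]; calc b * t * b⁻¹ * (b * t * b⁻¹) = b * (t * t) * b⁻¹ := by group
      _ = 1 := by rw [ht, mul_one, mul_inv_cancel]
  have hAi : A⁻¹ = A := inv_eq_of_mul_eq_one_left hA2
  have hBi : B⁻¹ = B := inv_eq_of_mul_eq_one_left hB2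
  have e1 : z * C.lft g = B * A := by
    rw [← inv_inv (z * C.lft g), ← e, mul_inv_rev, hAi, hBi]
  have h1 := (C.parts_mul_lft hz g).1
  rw [e1] at h1
  have h2 : ppt p (A * B) = z := by
    have : A * B = A * (B * A) * A⁻¹ := by group
    rw [this, ppt_conj, h1, ← (C.ker_commute hz A).eq, mul_inv_cancel_right]
  have h3 : ppt p (A * B) = (ppt p (B * A))⁻¹ := by
    have : A * B = (B * A)⁻¹ := by rw [mul_inv_rev, hAi, hBi]
    rw [this, ppt, ppt, inv_pow]
  rw [h1, h2] at h3
  have h4 : z ^ 2 = 1 := by rw [sq]; nth_rw 1 [h3]; exact inv_mul_cancel z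
  refine hz1 (orderOf_eq_one_iff.1 (Nat.eq_one_of_dvd_coprimes ?_
    (orderOf_dvd_of_pow_eq_one (C.ker_pow hz)) (orderOf_dvd_of_pow_eq_one h4)))
  exact ((Nat.coprime_primes hp.out Nat.prime_two).2 hp2).pow_left 1

open scoped Classical in
/-- The weighted twisted averages at an involution equal those of `G`. -/
theorem weighted_twist [Fintype G] [Fintype H] [Fintype (Cfsg.IrrCharacter H)]
    [Fintype (Cfsg.IrrCharacter G)] (hp2 : p ≠ 2) (ν : C.π.ker →* ℂˣ) {u : G}
    (hu : orderOf u = 2) :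
    ∑ ξ : Cfsg.IrrCharacter H, (ξ : H → ℂ) (C.lft u) ^ 2 / (ξ : H → ℂ) 1 *
        Cfsg.classInner (ξ : H → ℂ) (C.twist ν fun _ => 1) =
      ∑ η : Cfsg.IrrCharacter G, (η : G → ℂ) u ^ 2 / (η : G → ℂ) 1 * rr p (η : G → ℂ) := by
  letI := Fintype.ofFinite C.π.ker
  set t := C.lft u
  have ht : t * t = 1 := by
    rw [← sq, ← C.lft_involution hp2 hu, pow_orderOf_eq_one]
  set w : Cfsg.IrrCharacter H → ℂ := fun ξ => (ξ : H → ℂ) t ^ 2 / (ξ : H → ℂ) 1
  set Fs : H → ℂ := fun h => ∑ ξ : Cfsg.IrrCharacter H, w ξ * (ξ : H → ℂ) h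
  -- the sum does not depend on the twist
  have hindep : ∀ ν' : C.π.ker →* ℂˣ,
      ∑ ξ : Cfsg.IrrCharacter H, w ξ * Cfsg.classInner (ξ : H → ℂ) (C.twist ν' fun _ => 1) =
        (Nat.card H : ℂ)⁻¹ * ∑ g : G, if p ∣ orderOf g then 0 else Fs (C.lft g) := by
    intro ν'
    simp only [Cfsg.classInner, ← mul_assoc, Finset.mul_sum]
    rw [Finset.sum_comm]
    have h1 : ∀ h : H, ∑ ξ : Cfsg.IrrCharacter H,
        w ξ * (Nat.card H : ℂ)⁻¹ * (ξ : H → ℂ) h * conj (C.twist ν' (fun _ => 1) h) =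
        (Nat.card H : ℂ)⁻¹ * (if p ∣ orderOf (C.π h) then 0
          else Fs h * conj (C.twist ν' (fun _ => 1) h)) := fun h => by
      split_ifs with hh
      · rw [twist, if_pos hh, map_zero]; simp
      · simp only [Fs, Finset.sum_mul, Finset.mul_sum]
        exact Finset.sum_congr rfl fun ξ _ => by ring
    rw [Finset.sum_congr rfl fun h _ => h1 h, ← Finset.mul_sum, C.sum_over_regular,
      Finset.sum_eq_single (1 : C.π.ker)]
    · simp only [← Finset.mul_sum]
      refine congrArg (_ * ·) (Finset.sum_congr rfl fun g _ => ?_)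
      split_ifs with hg
      · rfl
      · rw [C.twist_apply ν' _ hg]; simp
    · intro z _ hz
      refine Finset.sum_eq_zero fun g _ => ?_
      split_ifs with hg
      · rfl
      · have h0 := sum_sq_apply_eq_zero t ((z : H) * C.lft g)⁻¹
          (C.not_product hp2 ht z.2 (fun e => hz (Subtype.ext e)) g)
        rw [inv_inv] at h0
        simp only [Fs, w]
        rw [h0, zero_mul]
    · simp
  rw [hindep ν, ← hindep 1]
  -- the untwisted class function is inflated from `G`
  set R : G → ℂ := fun g => if p ∣ orderOf g then 0 else 1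
  have hR : Cfsg.IsClassFunction G R := fun g k => by
    simp only [R]; rw [← MulAut.conj_apply, (MulAut.conj k).orderOf_eq g]
  have hcoef : ∀ η : Cfsg.IrrCharacter G,
      conj (Cfsg.classInner R (η : G → ℂ)) = rr p (η : G → ℂ) := fun η => by
    simp only [Cfsg.classInner, rr, R, map_mul, map_inv₀, map_natCast, map_sum]
    refine congrArg (_ * ·) (Finset.sum_congr rfl fun g _ => ?_)
    split_ifs <;> simp
  have htw : C.twist 1 (fun _ => 1) = ∑ η : Cfsg.IrrCharacter G,
      Cfsg.classInner R (η : G → ℂ) • (BrauerMap.Inflation.infl C.π C.surj η : H → ℂ) := by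
    funext h
    have e := congrFun (Characters.Complete.classFunction_eq_sum hR) (C.π h)
    simp only [Finset.sum_apply, Pi.smul_apply, BrauerMap.Inflation.infl_apply, smul_eq_mul] at e ⊢
    rw [← e]
    simp only [twist, R, MonoidHom.one_apply, Units.val_one, one_mul]
    split_ifs with hh hz
    · rfl
    · rfl
    · refine absurd ?_ hz
      rw [MonoidHom.mem_ker, ← (map_parts C.π h).1]
      exact ppt_eq_one_of_regular hh
  rw [htw]
  simp only [classInner_sum_right, classInner_smul_right, classInner_irr, hcoef, Finset.mul_sum,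
    mul_ite, mul_one, mul_zero]
  rw [Finset.sum_comm]
  refine Finset.sum_congr rfl fun η _ => ?_
  rw [Finset.sum_ite_eq' Finset.univ, if_pos (Finset.mem_univ _)]
  have hu' : C.π t = u := C.π_lft_of_regular (by
    rw [hu]; exact fun h => hp2 ((Nat.prime_dvd_prime_iff_eq hp.out Nat.prime_two).1 h))
  simp only [w, BrauerMap.Inflation.infl_apply, hu', map_one]

end Cover

end Cfsg.Agent.Lib.SmithTyrer56
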