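import Cfsg.Agent.Lib.SmithTyrer56.Lifts

/-!
# The rows of the twisted regular averages

For a faithful character `ω` of the kernel, every irreducible character `ξ` of the cover has
integers `α, β` with `ξ = α + β σψ` on the regular lifts, `∑ α² = ∑ β² = b + 1` and `∑ α β = b`.
-/

set_option autoImplicit false
set_option linter.style.haveILetI false

namespace Cfsg.Agent.Lib.SmithTyrer56

open scoped ComplexConjugate
open Cfsg.Agent.Lib.Isometry.Inner Cfsg.Agent.Lib.Characters.Basic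
open Cfsg.Agent.Lib.Induced.Basic (classInner_smul_left classInner_smul_right classInner_conj_symm)

universe u

variable {G : Type u} [Group G] [Finite G] {p : ℕ} [hp : Fact p.Prime]
  {M : Ideal Cfsg.AlgInt}

/-- Characters inside and outside the principal block are orthogonal on the regular elements. -/
theorem rr_block_orth [Fintype G] (hM : Cfsg.IsPModular p M) {ξ η : Cfsg.IrrCharacter G}
    (hξ : ξ ∈ Cfsg.principalBlock M G) (hη : η ∉ Cfsg.principalBlock M G) :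
    (rr p fun g => (ξ : G → ℂ) g * conj ((η : G → ℂ) g)) = 0 ∧
      (rr p fun g => (η : G → ℂ) g * conj ((ξ : G → ℂ) g)) = 0 := by
  haveI := hM.2.1
  have h0 : Blocks.Contrib.contribN p ξ η = 0 :=
    Blocks.Contrib.contribN_eq_zero hM Blocks.isPBlock_principalBlock hξ hη
  have key : ∀ a c : Cfsg.IrrCharacter G, Blocks.Contrib.contribN p a c = 0 →
      (rr p fun g => (a : G → ℂ) g * conj ((c : G → ℂ) g)) = 0 := fun a c h => by
    have h1 := Blocks.Contrib.regSum_eq_contribN p a c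
    rw [h, Int.cast_zero, mul_zero, Blocks.Contrib.regSum_eq_sum] at h1
    rw [rr]
    simp only [← apply_inv (isCharacter_irr c)]
    rw [h1, mul_zero]
  exact ⟨key ξ η h0, key η ξ (Blocks.Contrib.contribN_comm p ξ η ▸ h0)⟩

theorem not_mem_principal_of_rr [Fintype G] (hM : Cfsg.IsPModular p M) {η : Cfsg.IrrCharacter G}
    (h : rr p (η : G → ℂ) = 0) : η ∉ Cfsg.principalBlock M G := by
  rw [PIndexBlock.Criterion.mem_principalBlock_iff hM, not_not]
  rw [rr, mul_eq_zero, inv_eq_zero] at h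
  rcases h with h | h
  · exact absurd h (Nat.cast_ne_zero.mpr Nat.card_pos.ne')
  · convert h

variable {P : Sylow p G}

namespace Fam

open scoped Classical in
/-- The coefficient of the constant in the regular values. -/
noncomputable def coefA (F : Fam P) (η : Cfsg.IrrCharacter G) : ℤ :=
  (if η = oneChar G then 1 else 0) + F.eta η

open scoped Classical in
/-- The coefficient of `σψ` in the regular values. -/
noncomputable def coefB (F : Fam P) (η : Cfsg.IrrCharacter G) : ℤ :=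
  (if η = F.ψ then F.σ else 0) + F.eta η

variable (hS : Setting P) (F : Fam P)
include hS

theorem regular_value [Fintype G] (η : Cfsg.IrrCharacter G) (h : rr p (η : G → ℂ) ≠ 0) {g : G}
    (hg : ¬ p ∣ orderOf g) :
    (η : G → ℂ) g = (F.coefA η : ℂ) + (F.coefB η : ℂ) * ((F.σ : ℂ) * (F.ψ : G → ℂ) g) := by
  classical
  have hσ : (F.σ : ℂ) * (F.σ : ℂ) = 1 := by rcases F.σ_pm with c | c <;> simp [c]
  obtain ⟨hψ, h1⟩ := F.eta_ψ hS
  have hne := F.ψ_ne_one hS
  by_cases e1 : η = oneChar G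
  · subst e1
    rw [coefA, coefB, if_pos rfl, if_neg hne.symm, h1, oneChar_apply]
    simp
  by_cases e2 : η = F.ψ
  · subst e2
    rw [coefA, coefB, if_neg e1, if_pos rfl, hψ]
    push_cast
    linear_combination (-(F.ψ : G → ℂ) g) * hσ
  by_cases e3 : ∃ lam, F.χ lam = η
  · obtain ⟨lam, rfl⟩ := e3
    rw [coefA, coefB, if_neg e1, if_neg e2, F.eta_χ hS, F.χ_regular hS lam hg]
    push_cast
    ring
  · exfalso
    apply h
    have h2 := F.card_mul_rr hS η
    rw [if_neg e1, if_neg e2, F.eta_of_not (not_exists.1 e3), sub_zero, Int.cast_zero, add_zero,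
      mul_eq_zero] at h2
    exact h2.resolve_left (Nat.cast_ne_zero.mpr Nat.card_pos.ne')

/-- The averages of `1` and `ψ` against `1` and `ψ`. -/
theorem base_values [Fintype G] (hM : Cfsg.IsPModular p M) :
    (Nat.card (P : Subgroup G) : ℂ) * rr p (fun _ : G => (1 : ℂ)) = (halfCard P : ℂ) + 1 ∧
    (Nat.card (P : Subgroup G) : ℂ) * rr p (fun g => (F.ψ : G → ℂ) g) =
      -((halfCard P : ℂ) * (F.σ : ℂ)) ∧
    (Nat.card (P : Subgroup G) : ℂ) * rr p (fun g => (1 : ℂ) * conj ((F.ψ : G → ℂ) g)) =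
      -((halfCard P : ℂ) * (F.σ : ℂ)) ∧
    (Nat.card (P : Subgroup G) : ℂ) * rr p (fun g => (F.ψ : G → ℂ) g * conj ((F.ψ : G → ℂ) g)) =
      (halfCard P : ℂ) + 1 := by
  classical
  have hσ : (F.σ : ℂ) * (F.σ : ℂ) = 1 := by rcases F.σ_pm with c | c <;> simp [c]
  obtain ⟨hψ, h1⟩ := F.eta_ψ hS
  have hne := F.ψ_ne_one hS
  have hone : (1 : G → ℂ) = ((oneChar G : Cfsg.IrrCharacter G) : G → ℂ) := rfl
  have v1 := F.card_mul_rr hS (oneChar G)
  rw [if_pos rfl, if_neg hne.symm, h1, sub_zero, Int.cast_zero, add_zero] at v1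
  have v2 := F.card_mul_rr hS F.ψ
  rw [if_neg hne, if_pos rfl, hψ, zero_sub, Int.cast_zero, add_zero] at v2
  have hc := (congrArg (fun n : ℕ => (n : ℂ)) hS.card_eq.1)
  push_cast at hc
  refine ⟨v1, v2, ?_, ?_⟩
  · rw [F.rr_mul_conj_ψ hS hM (fun _ => (1 : ℂ)),
      show (fun _ : G => (1 : ℂ)) = ((oneChar G : Cfsg.IrrCharacter G) : G → ℂ) from rfl, hone,
      classInner_irr, classInner_irr, if_neg hne.symm, if_pos rfl]
    linear_combination (F.σ : ℂ) * v1 - (F.σ : ℂ) * hc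
  · rw [F.rr_mul_conj_ψ hS hM (fun g => (F.ψ : G → ℂ) g),
      show (fun g => (F.ψ : G → ℂ) g) = (F.ψ : G → ℂ) from rfl, hone, classInner_irr, classInner_irr,
      if_pos rfl, if_neg hne]
    linear_combination (F.σ : ℂ) * v2 + hc - (halfCard P : ℂ) * hσ

/-- A generalised character orthogonal to the characters with zero average is `α + β σψ` on the
regular elements. -/
theorem exists_coeffs [Fintype G] (hM : Cfsg.IsPModular p M) {θ : G → ℂ}
    (hθ : Cfsg.IsGeneralizedCharacter G θ)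
    (horth : ∀ η : Cfsg.IrrCharacter G, rr p (η : G → ℂ) = 0 →
      (rr p fun g => θ g * conj ((η : G → ℂ) g)) = 0) :
    ∃ α β : ℤ, ∀ g : G, ¬ p ∣ orderOf g →
      θ g = (α : ℂ) + (β : ℂ) * ((F.σ : ℂ) * (F.ψ : G → ℂ) g) := by
  classical
  letI := Fintype.ofFinite (Cfsg.IrrCharacter G)
  obtain ⟨c, -, hc, -⟩ := gen_coeff hθ
  set S : Finset (Cfsg.IrrCharacter G) := Finset.univ.filter fun η => rr p (η : G → ℂ) ≠ 0
  set D : G → ℂ := fun g => ∑ η ∈ Sᶜ, (c η : ℂ) * (η : G → ℂ) g with hD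
  have hθg : ∀ g, θ g = (∑ η ∈ S, (c η : ℂ) * (η : G → ℂ) g) + D g := fun g => by
    rw [hD, Finset.sum_add_sum_compl]
    conv_lhs => rw [hc]
    simp
  have horth2 : ∀ η ∈ S, ∀ η' ∈ Sᶜ,
      (rr p fun g => (η : G → ℂ) g * conj ((η' : G → ℂ) g)) = 0 := fun η hη η' hη' => by
    simp only [S, Finset.mem_compl, Finset.mem_filter, Finset.mem_univ, true_and, not_not] at hη hη'
    exact (rr_block_orth hM (mem_principal_of_rr hM hη) (not_mem_principal_of_rr hM hη')).1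
  have hDD : (rr p fun g => D g * conj (D g)) = 0 := by
    have e : (fun g => D g * conj (D g)) = ∑ η' ∈ Sᶜ, (conj (c η' : ℂ)) •
        ((fun g => θ g * conj ((η' : G → ℂ) g)) +
          ∑ η ∈ S, (-(c η : ℂ)) • fun g => (η : G → ℂ) g * conj ((η' : G → ℂ) g)) := by
      funext g
      conv_lhs => enter [2]; rw [hD, map_sum]
      rw [Finset.mul_sum, Finset.sum_apply]
      refine Finset.sum_congr rfl fun η' _ => ?_
      simp only [Pi.smul_apply, Pi.add_apply, Finset.sum_apply, smul_eq_mul, map_mul, neg_mul,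
        Finset.sum_neg_distrib]
      rw [hθg g, Finset.sum_congr rfl (g := fun η => ((c η : ℂ) * (η : G → ℂ) g) *
        conj ((η' : G → ℂ) g)) fun η _ => (mul_assoc _ _ _).symm, ← Finset.sum_mul]
      ring
    rw [e, rr_sum]
    refine Finset.sum_eq_zero fun η' hη' => ?_
    rw [rr_smul, rr_add, rr_sum, horth η' (by simpa [S] using hη'), zero_add,
      Finset.sum_eq_zero fun η hη => by rw [rr_smul, horth2 η hη η' hη', mul_zero], mul_zero]
  have hD0 : ∀ g, ¬ p ∣ orderOf g → D g = 0 := by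
    rw [rr, mul_eq_zero, inv_eq_zero] at hDD
    replace hDD := hDD.resolve_left (Nat.cast_ne_zero.mpr Nat.card_pos.ne')
    have h1 : ∑ g : G, (if p ∣ orderOf g then (0 : ℝ) else Complex.normSq (D g)) = 0 := by
      apply Complex.ofReal_injective
      rw [Complex.ofReal_sum, Complex.ofReal_zero, ← hDD]
      refine Finset.sum_congr rfl fun g _ => ?_
      split_ifs
      · simp
      · rw [Complex.mul_conj]
    rw [Finset.sum_eq_zero_iff_of_nonneg fun g _ => by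
      split_ifs
      · exact le_rfl
      · exact Complex.normSq_nonneg _] at h1
    intro g hg
    have := h1 g (Finset.mem_univ g)
    rw [if_neg hg] at this
    exact Complex.normSq_eq_zero.1 this
  refine ⟨∑ η ∈ S, c η * F.coefA η, ∑ η ∈ S, c η * F.coefB η, fun g hg => ?_⟩
  rw [hθg g, hD0 g hg, add_zero]
  push_cast
  rw [Finset.sum_mul, ← Finset.sum_add_distrib]
  refine Finset.sum_congr rfl fun η hη => ?_
  rw [F.regular_value hS η (Finset.mem_filter.1 hη).2 hg]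
  ring

variable {H : Type u} [Group H] [Finite H] (C : Cover p G H)

open scoped Classical in
/-- The row of a character of the cover. -/
theorem exists_row [Fintype G] [Fintype H] [Fintype C.π.ker] (hM : Cfsg.IsPModular p M)
    (ν : C.π.ker →* ℂˣ) (ξ : Cfsg.IrrCharacter H) :
    ∃ α β : ℤ,
      (Nat.card (P : Subgroup G) : ℂ) * Cfsg.classInner (ξ : H → ℂ) (C.twist ν fun _ => 1) =
        ((halfCard P : ℂ) + 1) * α - (halfCard P : ℂ) * β ∧
      (Nat.card (P : Subgroup G) : ℂ) *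
          Cfsg.classInner (ξ : H → ℂ) (C.twist ν fun g => (F.σ : ℂ) * (F.ψ : G → ℂ) g) =
        -((halfCard P : ℂ) * α) + ((halfCard P : ℂ) + 1) * β ∧
      ((α ≠ 0 ∨ β ≠ 0) → (∀ z, C.cc ξ z = (ν z : ℂ)) ∧ ∀ g : G, ¬ p ∣ orderOf g →
        (ξ : H → ℂ) (C.lft g) = (α : ℂ) + (β : ℂ) * ((F.σ : ℂ) * (F.ψ : G → ℂ) g)) := by
  set θ : G → ℂ := fun g => (ξ : H → ℂ) (C.lft g) with hθ
  rw [C.inner_twist, C.inner_twist, C.mult_eq]
  simp only [map_one, mul_one, map_mul, map_intCast]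
  by_cases hcc : ∀ z, C.cc ξ z = (ν z : ℂ)
  swap
  · exact ⟨0, 0, by rw [if_neg hcc]; simp, by rw [if_neg hcc]; simp, fun h => by simp at h⟩
  simp only [if_pos hcc, one_mul]
  by_cases h0 : rr p θ = 0 ∧ (rr p fun g => θ g * conj ((F.ψ : G → ℂ) g)) = 0
  · refine ⟨0, 0, ?_, ?_, fun h => by simp at h⟩
    · rw [show (rr p fun g => (ξ : H → ℂ) (C.lft g)) = 0 from h0.1]; simp
    · rw [show (fun g => (ξ : H → ℂ) (C.lft g) * ((F.σ : ℂ) * conj ((F.ψ : G → ℂ) g))) =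
        (F.σ : ℂ) • fun g => θ g * conj ((F.ψ : G → ℂ) g) from funext fun g => by
          simp only [hθ, Pi.smul_apply, smul_eq_mul]; ring, rr_smul, h0.2]
      simp
  have hinfl : ∀ η : Cfsg.IrrCharacter G,
      (p : ℂ) * rr p (BrauerMap.Inflation.infl C.π C.surj η : H → ℂ) = rr p (η : G → ℂ) := fun η => by
    rw [C.rr_upstairs]
    exact rr_congr fun g hg => by rw [BrauerMap.Inflation.infl_apply, C.π_lft_of_regular hg]
  have hp0 : (p : ℂ) ≠ 0 := Nat.cast_ne_zero.mpr hp.out.ne_zero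
  have hpair : ∀ η : Cfsg.IrrCharacter G,
      (p : ℂ) * (rr p fun h => (ξ : H → ℂ) h *
        conj ((BrauerMap.Inflation.infl C.π C.surj η : H → ℂ) h)) =
      rr p fun g => θ g * conj ((η : G → ℂ) g) := fun η => by
    rw [C.rr_upstairs]
    exact rr_congr fun g hg => by
      rw [BrauerMap.Inflation.infl_apply, C.π_lft_of_regular hg]
  have hξB : ξ ∈ Cfsg.principalBlock M H := by
    by_contra hξ
    refine h0 ⟨?_, ?_⟩
    · by_contra h
      refine hξ (mem_principal_of_rr hM fun e => h ?_)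
      rw [hθ, ← C.rr_upstairs, e, mul_zero]
    · rw [← hpair, (rr_block_orth hM ?_ hξ).2, mul_zero]
      refine mem_principal_of_rr hM fun e => F.rr_ψ_ne_zero hS ?_
      rw [← hinfl, e, mul_zero]
  obtain ⟨α, β, hαβ⟩ := F.exists_coeffs hS hM (θ := θ) (C.lft_gen ξ) fun η hη => by
    rw [← hpair, (rr_block_orth hM hξB (not_mem_principal_of_rr hM ?_)).1, mul_zero]
    exact mul_left_cancel₀ hp0 (by rw [hinfl, hη, mul_zero])
  obtain ⟨v1, v2, v3, v4⟩ := F.base_values hS hM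
  have hσ : (F.σ : ℂ) * (F.σ : ℂ) = 1 := by rcases F.σ_pm with c | c <;> simp [c]
  refine ⟨α, β, ?_, ?_, fun _ => ⟨hcc, hαβ⟩⟩
  · rw [rr_congr (f' := (α : ℂ) • (fun _ : G => (1 : ℂ)) +
      ((β : ℂ) * (F.σ : ℂ)) • fun g => (F.ψ : G → ℂ) g) fun g hg => by
        change θ g = _
        rw [hαβ g hg]; simp only [Pi.add_apply, Pi.smul_apply, smul_eq_mul]; ring]
    rw [rr_add, rr_smul, rr_smul]
    linear_combination (α : ℂ) * v1 + (β : ℂ) * (F.σ : ℂ) * v2 -
      (β : ℂ) * (halfCard P : ℂ) * hσ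
  · rw [rr_congr (f' := ((α : ℂ) * (F.σ : ℂ)) • (fun g => (1 : ℂ) * conj ((F.ψ : G → ℂ) g)) +
      (β : ℂ) • fun g => (F.ψ : G → ℂ) g * conj ((F.ψ : G → ℂ) g)) fun g hg => by
        change θ g * _ = _
        simp only [hαβ g hg, Pi.add_apply, Pi.smul_apply, smul_eq_mul]
        linear_combination ((β : ℂ) * (F.ψ : G → ℂ) g * conj ((F.ψ : G → ℂ) g)) * hσ]
    rw [rr_add, rr_smul, rr_smul]
    linear_combination (α : ℂ) * (F.σ : ℂ) * v3 + (β : ℂ) * v4 -
      (α : ℂ) * (halfCard P : ℂ) * hσ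

open scoped Classical in
/-- The rows with their three sums. -/
theorem exists_rows [Fintype G] [Fintype H] [Fintype C.π.ker] [Fintype (Cfsg.IrrCharacter H)]
    (hM : Cfsg.IsPModular p M) (ν : C.π.ker →* ℂˣ) :
    ∃ α β : Cfsg.IrrCharacter H → ℤ,
      (∀ ξ : Cfsg.IrrCharacter H, (Nat.card (P : Subgroup G) : ℂ) *
          Cfsg.classInner (ξ : H → ℂ) (C.twist ν fun _ => 1) =
        ((halfCard P : ℂ) + 1) * α ξ - (halfCard P : ℂ) * β ξ) ∧
      (∀ ξ : Cfsg.IrrCharacter H, (α ξ ≠ 0 ∨ β ξ ≠ 0) → (∀ z, C.cc ξ z = (ν z : ℂ)) ∧ ∀ g : G, ¬ p ∣ orderOf g →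
        (ξ : H → ℂ) (C.lft g) = (α ξ : ℂ) + (β ξ : ℂ) * ((F.σ : ℂ) * (F.ψ : G → ℂ) g)) ∧
      ∑ ξ, α ξ ^ 2 = (halfCard P : ℤ) + 1 ∧ ∑ ξ, β ξ ^ 2 = (halfCard P : ℤ) + 1 ∧
      ∑ ξ, α ξ * β ξ = (halfCard P : ℤ) := by
  choose α β hw hv hrow using F.exists_row hS C hM ν
  refine ⟨α, β, hw, hrow, ?_⟩
  obtain ⟨v1, v2, v3, v4⟩ := F.base_values hS hM
  have hσ : (F.σ : ℂ) * (F.σ : ℂ) = 1 := by rcases F.σ_pm with c | c <;> simp [c]
  set b : ℂ := (halfCard P : ℂ)
  set N : ℂ := (Nat.card (P : Subgroup G) : ℂ)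
  have hN0 : N ≠ 0 := Nat.cast_ne_zero.mpr Nat.card_pos.ne'
  have hNb : N = 2 * b + 1 := by
    simp only [N, b]; rw [hS.card_eq.1]; push_cast; ring
  set T1 := C.twist ν fun _ => (1 : ℂ)
  set T2 := C.twist ν fun g => (F.σ : ℂ) * (F.ψ : G → ℂ) g
  have hc1 : Cfsg.IsClassFunction H T1 := C.twist_classFun ν fun _ _ => rfl
  have hc2 : Cfsg.IsClassFunction H T2 :=
    C.twist_classFun ν fun g k => by rw [isClassFunction_irr F.ψ g k]
  -- Parseval
  have hpars : ∀ (T T' : H → ℂ) (f f' : Cfsg.IrrCharacter H → ℤ), Cfsg.IsClassFunction H T →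
      Cfsg.IsClassFunction H T' →
      (∀ ξ : Cfsg.IrrCharacter H, N * Cfsg.classInner (ξ : H → ℂ) T = f ξ) →
      (∀ ξ : Cfsg.IrrCharacter H, N * Cfsg.classInner (ξ : H → ℂ) T' = f' ξ) →
      ((∑ ξ, f ξ * f' ξ : ℤ) : ℂ) = N ^ 2 * Cfsg.classInner T T' := by
    intro T T' f f' hT hT' hf hf'
    have e := Characters.Complete.classFunction_eq_sum hT
    conv_rhs => rw [e]
    rw [classInner_sum_left, Finset.mul_sum]
    push_cast
    refine Finset.sum_congr rfl fun ξ _ => ?_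
    rw [classInner_smul_left, ← classInner_conj_symm (ξ : H → ℂ) T, ← hf', sq,
      show (f ξ : ℂ) = conj (f ξ : ℂ) from (map_intCast _ _).symm, ← hf, map_mul,
      show conj N = N from map_natCast _ _]
    ring
  set f1 : Cfsg.IrrCharacter H → ℤ :=
    fun ξ => ((halfCard P : ℤ) + 1) * α ξ - (halfCard P : ℤ) * β ξ
  set f2 : Cfsg.IrrCharacter H → ℤ :=
    fun ξ => -((halfCard P : ℤ) * α ξ) + ((halfCard P : ℤ) + 1) * β ξ
  have hf1 : ∀ ξ : Cfsg.IrrCharacter H, N * Cfsg.classInner (ξ : H → ℂ) T1 = f1 ξ := fun ξ => by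
    rw [hw ξ]; simp only [f1]; push_cast; rfl
  have hf2 : ∀ ξ : Cfsg.IrrCharacter H, N * Cfsg.classInner (ξ : H → ℂ) T2 = f2 ξ := fun ξ => by
    rw [hv ξ]; simp only [f2]; push_cast; rfl
  have i11 : N * Cfsg.classInner T1 T1 = b + 1 := by
    rw [C.twist_twist]; simpa using v1
  have i12 : N * Cfsg.classInner T1 T2 = -b := by
    rw [C.twist_twist, rr_congr (f' := (F.σ : ℂ) • fun g => (1 : ℂ) * conj ((F.ψ : G → ℂ) g))
      fun g _ => by simp, rr_smul, mul_left_comm, v3]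
    linear_combination -b * hσ
  have i22 : N * Cfsg.classInner T2 T2 = b + 1 := by
    rw [C.twist_twist, rr_congr (f' := ((F.σ : ℂ) * (F.σ : ℂ)) •
      fun g => (F.ψ : G → ℂ) g * conj ((F.ψ : G → ℂ) g)) fun g _ => by simp; ring, rr_smul,
      mul_left_comm, v4, hσ, one_mul]
  have s11 := hpars T1 T1 f1 f1 hc1 hc1 hf1 hf1
  have s12 := hpars T1 T2 f1 f2 hc1 hc2 hf1 hf2
  have s22 := hpars T2 T2 f2 f2 hc2 hc2 hf2 hf2
  rw [sq N, mul_assoc, i11] at s11
  rw [sq N, mul_assoc, i12] at s12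
  rw [sq N, mul_assoc, i22] at s22
  push_cast at s11 s12 s22
  have hα : ∀ ξ, N * (α ξ : ℂ) = (b + 1) * (f1 ξ : ℂ) + b * (f2 ξ : ℂ) := fun ξ => by
    simp only [f1, f2, hNb, b]; push_cast; ring
  have hβ : ∀ ξ, N * (β ξ : ℂ) = b * (f1 ξ : ℂ) + (b + 1) * (f2 ξ : ℂ) := fun ξ => by
    simp only [f1, f2, hNb, b]; push_cast; ring
  have hcomb : ∀ (x1 y1 x2 y2 : ℂ),
      ∑ ξ, (x1 * (f1 ξ : ℂ) + y1 * (f2 ξ : ℂ)) * (x2 * (f1 ξ : ℂ) + y2 * (f2 ξ : ℂ)) =
        x1 * x2 * (N * (b + 1)) + (x1 * y2 + y1 * x2) * (N * -b) + y1 * y2 * (N * (b + 1)) := by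
    intro x1 y1 x2 y2
    refine Eq.trans ?_ (congrArg₂ (· + ·) (congrArg₂ (· + ·) (congrArg (x1 * x2 * ·) s11)
      (congrArg ((x1 * y2 + y1 * x2) * ·) s12)) (congrArg (y1 * y2 * ·) s22))
    simp only [Finset.mul_sum, ← Finset.sum_add_distrib]
    exact Finset.sum_congr rfl fun ξ _ => by ring
  have hgen : ∀ (u v : Cfsg.IrrCharacter H → ℤ) (x1 y1 x2 y2 : ℂ) (r : ℤ),
      (∀ ξ, N * (u ξ : ℂ) = x1 * (f1 ξ : ℂ) + y1 * (f2 ξ : ℂ)) →
      (∀ ξ, N * (v ξ : ℂ) = x2 * (f1 ξ : ℂ) + y2 * (f2 ξ : ℂ)) →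
      x1 * x2 * (b + 1) + (x1 * y2 + y1 * x2) * -b + y1 * y2 * (b + 1) = N * r →
      ∑ ξ, u ξ * v ξ = r := by
    intro u v x1 y1 x2 y2 r hu hv' hr
    apply Int.cast_injective (α := ℂ)
    apply mul_left_cancel₀ (pow_ne_zero 2 hN0)
    push_cast
    rw [Finset.mul_sum, Finset.sum_congr rfl (g := fun ξ =>
      (x1 * (f1 ξ : ℂ) + y1 * (f2 ξ : ℂ)) * (x2 * (f1 ξ : ℂ) + y2 * (f2 ξ : ℂ))) fun ξ _ => by
        rw [← hu, ← hv']; ring, hcomb]
    linear_combination N * hr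
  refine ⟨?_, ?_, ?_⟩
  · simp only [sq]
    exact hgen α α _ _ _ _ _ hα hα (by push_cast; rw [hNb]; simp only [b]; ring)
  · simp only [sq]
    exact hgen β β _ _ _ _ _ hβ hβ (by push_cast; rw [hNb]; simp only [b]; ring)
  · exact hgen α β _ _ _ _ _ hα hβ (by push_cast; rw [hNb]; simp only [b]; ring)

end Fam

end Cfsg.Agent.Lib.SmithTyrer56
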