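import Cfsg.Agent.Lib.SmithTyrer56.Ext
import Cfsg.Agent.Lib.SmithTyrer56.Rows
import Cfsg.Agent.Lib.SmithTyrer56.Pairs
import Cfsg.Agent.Lib.SmithTyrer56.Arith
import Cfsg.Agent.Lib.Characters.Kernel
import Cfsg.Agent.Lib.Blocks.LocalRing

/-!
# Under the standing hypotheses the Sylow subgroup is normal
-/

set_option autoImplicit false
set_option linter.style.haveILetI false

namespace Cfsg.Agent.Lib.SmithTyrer56

open scoped ComplexConjugate
open Cfsg.Agent.Lib.Isometry.Inner Cfsg.Agent.Lib.Characters.Basic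
  Cfsg.Agent.Lib.Characters.Kernel

universe u

variable {G : Type u} [Group G] [Finite G] {p : ℕ} [hp : Fact p.Prime] {P : Sylow p G}

namespace Setting

variable (hS : Setting P)
include hS

theorem exists_ne_one_mem : ∃ x ∈ (P : Subgroup G), x ≠ 1 := by
  by_contra h
  push Not at h
  have h9 := hS.card_P.1
  rw [(Subgroup.eq_bot_iff_forall _).2 h, Subgroup.card_bot] at h9
  omega

theorem exists_involution : ∃ u : G, orderOf u = 2 := by
  haveI := Fact.mk Nat.prime_two
  refine exists_prime_orderOf_dvd_card' 2 ?_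
  by_contra hodd
  rw [Nat.two_dvd_ne_zero] at hodd
  obtain ⟨n, hn⟩ := hS.inv
  obtain ⟨x, hx, hx1⟩ := hS.exists_ne_one_mem
  have hcop : (orderOf n).Coprime 2 :=
    Nat.Coprime.of_dvd_left (orderOf_dvd_natCard n) (Nat.coprime_two_right.2 (Nat.odd_iff.2 hodd))
  obtain ⟨m, hm⟩ := exists_pow_eq_self_of_coprime hcop.symm
  have h2 : Commute (n ^ 2) x := by
    have h1 : n * x⁻¹ * n⁻¹ = x := by
      rw [hn x⁻¹ (inv_mem hx), inv_inv]
    have : n ^ 2 * x * (n ^ 2)⁻¹ = x := by
      calc n ^ 2 * x * (n ^ 2)⁻¹ = n * (n * x * n⁻¹) * n⁻¹ := by rw [sq]; group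
        _ = x := by rw [hn x hx, h1]
    show n ^ 2 * x = x * n ^ 2
    rwa [mul_inv_eq_iff_eq_mul] at this
  have h3 := h2.pow_left m
  rw [hm] at h3
  have h4 := hn x hx
  rw [h3.eq, mul_inv_cancel_right] at h4
  exact hS.inv_ne_self hx hx1 h4.symm

/-- The coherent character has degree one. -/
theorem fam_linear (F : Fam P) : (F.σ : ℂ) * (F.ψ : G → ℂ) 1 = 1 := by
  classical
  obtain ⟨M, hM⟩ := Blocks.exists_isPModular p hp.out
  obtain ⟨H, iG, iF, π, hπ, hcen, hcard, a, b, ha, hb, hab⟩ := hS.exists_extension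
  let C : Cover p G H := ⟨π, hπ, hcen, hcard⟩
  letI := Fintype.ofFinite G
  letI := Fintype.ofFinite H
  letI := Fintype.ofFinite C.π.ker
  letI := Fintype.ofFinite (Cfsg.IrrCharacter H)
  letI := Fintype.ofFinite (Cfsg.IrrCharacter G)
  obtain ⟨u, hu⟩ := hS.exists_involution
  have hureg : ¬ p ∣ orderOf u := by
    rw [hu]; exact fun h => hS.odd ((Nat.prime_dvd_prime_iff_eq hp.out Nat.prime_two).1 h)
  obtain ⟨n, hn⟩ := exists_degree (isCharacter_irr F.ψ)
  set d : ℤ := F.σ * n with hd
  have hdC : (d : ℂ) = (F.σ : ℂ) * (F.ψ : G → ℂ) 1 := by rw [hd, hn]; push_cast; rfl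
  set x : ℂ := (F.σ : ℂ) * (F.ψ : G → ℂ) u with hxdef
  have hσ : (F.σ : ℂ) * (F.σ : ℂ) = 1 := by rcases F.σ_pm with c | c <;> simp [c]
  rw [← hdC]
  suffices h : d = 1 by rw [h]; norm_num
  by_cases hxd : x = (d : ℂ)
  · -- `u` lies in the kernel of `ψ`, which contains a `p`-singular element
    have hψu : (F.ψ : G → ℂ) u = (F.ψ : G → ℂ) 1 := by
      have e : (F.σ : ℂ) * (F.ψ : G → ℂ) u = (F.σ : ℂ) * (F.ψ : G → ℂ) 1 := by
        rw [← hxdef, ← hdC, hxd]
      linear_combination (F.σ : ℂ) * e - ((F.ψ : G → ℂ) u - (F.ψ : G → ℂ) 1) * hσ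
    set K := charKer (isCharacter_irr F.ψ)
    haveI : K.Normal := charKer_normal _
    obtain ⟨k, hk, hkp⟩ : ∃ k ∈ K, p ∣ orderOf k := by
      by_contra hno
      push Not at hno
      have hK : ¬ p ∣ Nat.card K := fun hdvd => by
        obtain ⟨k, hk⟩ := exists_prime_orderOf_dvd_card' p hdvd
        exact hno k k.2 (by rw [Subgroup.orderOf_coe, hk])
      have hle : K ≤ Cfsg.pPrimeCore p G := Cores.le_pPrimeCore_of_not_dvd hK
      rw [hS.core, le_bot_iff] at hle
      have hu1 : u ∈ K := (mem_charKer _ u).2 hψu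
      rw [hle, Subgroup.mem_bot] at hu1
      rw [hu1, orderOf_one] at hu
      norm_num at hu
    have h1 := F.ψ_singular hS hM hkp
    rw [(mem_charKer _ k).1 hk] at h1
    have : (d : ℂ) = ((1 : ℤ) : ℂ) := by rw [hdC, h1, hσ]; norm_num
    exact_mod_cast this
  obtain ⟨ν, hν⟩ : ∃ ν : C.π.ker →* ℂˣ, ∀ z, ν z = 1 → z = 1 := by
    letI : CommGroup C.π.ker :=
      { (inferInstance : Group C.π.ker) with
        mul_comm := fun s t => Subtype.ext (C.ker_commute s.2 (t : H)).eq }
    haveI : Nontrivial C.π.ker :=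
      Finite.one_lt_card_iff_nontrivial.1 (by rw [C.card_ker]; exact hp.out.one_lt)
    obtain ⟨z0, hz0⟩ := exists_ne (1 : C.π.ker)
    obtain ⟨ν, hν⟩ := CommGroup.exists_apply_ne_one_of_hasEnoughRootsOfUnity _ ℂ hz0
    refine ⟨ν, fun z hz => ?_⟩
    haveI : Fact (Nat.card C.π.ker).Prime := ⟨by rw [C.card_ker]; exact hp.out⟩
    rcases Subgroup.eq_bot_or_eq_top_of_prime_card ν.ker with h | h
    · exact (Subgroup.mem_bot).1 (h ▸ hz : z ∈ (⊥ : Subgroup C.π.ker))
    · exact absurd (h ▸ Subgroup.mem_top z0 : z0 ∈ ν.ker) hν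
  obtain ⟨α, β, hw, hrow, haa, hbb, hab'⟩ := F.exists_rows hS C hM ν
  have hone : ∀ ξ : Cfsg.IrrCharacter H, (α ξ ≠ 0 ∨ β ξ ≠ 0) →
      (ξ : H → ℂ) 1 = (α ξ : ℂ) + (β ξ : ℂ) * (d : ℂ) ∧
        (ξ : H → ℂ) (C.lft u) = (α ξ : ℂ) + (β ξ : ℂ) * x := fun ξ h => by
    obtain ⟨-, hv⟩ := hrow ξ h
    have h1 := hv 1 (by rw [orderOf_one]; exact hp.out.not_dvd_one)
    rw [C.lft_one] at h1
    exact ⟨by rw [h1, hdC], hv u hureg⟩
  refine rows_force α β (halfCard P) (by have := hS.card_eq.2; omega) d x haa hbb hab' ?_ ?_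
    (fun ξ h e => apply_one_ne_zero ξ (by rw [(hone ξ h).1]; exact_mod_cast e)) ?_ hxd ?_
  · intro e
    have : (d : ℂ) = 0 := by rw [e]; norm_num
    rw [hdC] at this
    rcases mul_eq_zero.1 this with h | h
    · rcases F.σ_pm with c | c <;> rw [c] at h <;> norm_num at h
    · exact apply_one_ne_zero F.ψ h
  · intro e
    obtain ⟨lam⟩ := Fam.exists_lin hS
    refine apply_one_ne_zero (F.χ lam) ?_
    rw [F.χ_regular hS lam (by rw [orderOf_one]; exact hp.out.not_dvd_one), ← hdC]
    have : (1 : ℂ) + (d : ℂ) = 0 := by exact_mod_cast e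
    rw [this, mul_zero]
  · intro ξ hβ
    constructor <;> intro hα <;> obtain ⟨hcc, hv⟩ := hrow ξ (Or.inl (by rw [hα]; norm_num))
    swap
    · have h1 := (hone ξ (Or.inl (by rw [hα]; norm_num))).1
      obtain ⟨m, hm⟩ := exists_degree (isCharacter_irr ξ)
      rw [hm, hα, hβ] at h1
      have : ((m : ℤ) : ℂ) = ((-1 : ℤ) : ℂ) := by push_cast at h1 ⊢; simpa using h1
      have := Int.cast_injective this
      omega
    · have h1 := (hone ξ (Or.inl (by rw [hα]; norm_num))).1
      rw [hα, hβ] at h1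
      have h11 : (ξ : H → ℂ) 1 = 1 := by simpa using h1
      set l := Characters.Linear.degOneHom (isCharacter_irr ξ) h11
      have hc : π (a * b * a⁻¹ * b⁻¹) = 1 := by
        simp only [map_mul, map_inv]
        rw [hS.comm _ ha _ hb]
        group
      have hl : l (a * b * a⁻¹ * b⁻¹) = 1 := by
        simp only [map_mul, map_inv]
        rw [mul_comm (l a) (l b)]
        group
      have hνc : ν (⟨a * b * a⁻¹ * b⁻¹, hc⟩ : C.π.ker) = 1 := by
        apply Units.ext
        rw [← hcc ⟨a * b * a⁻¹ * b⁻¹, hc⟩, Cover.cc, h11, div_one, Units.val_one]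
        rw [← Characters.Linear.degOneHom_apply (isCharacter_irr ξ) h11]
        exact congrArg Units.val hl
      have h2 := congrArg Subtype.val (hν _ hνc)
      simp only [OneMemClass.coe_one] at h2
      exact hab (by rwa [mul_inv_eq_one, mul_inv_eq_iff_eq_mul] at h2)
  · -- the two evaluations of the weighted sum
    have hN0 : (Nat.card (P : Subgroup G) : ℂ) ≠ 0 := Nat.cast_ne_zero.mpr Nat.card_pos.ne'
    have key := congrArg ((Nat.card (P : Subgroup G) : ℂ) * ·)
      (C.weighted_twist hS.odd ν hu)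
    simp only [Finset.mul_sum] at key
    refine Eq.trans (Finset.sum_congr rfl fun ξ _ => ?_) (key.trans ?_)
    · rw [mul_left_comm (Nat.card (P : Subgroup G) : ℂ), hw ξ]
      by_cases h : α ξ ≠ 0 ∨ β ξ ≠ 0
      · obtain ⟨e1, e2⟩ := hone ξ h
        rw [e1, e2]; ring
      · push Not at h
        rw [h.1, h.2]; simp
    · have hd' : (F.ψ : G → ℂ) 1 ≠ 0 := apply_one_ne_zero _
      haveI := hS.finite_dual
      letI := Fintype.ofFinite (Lin P)
      obtain ⟨hψ, h1⟩ := F.eta_ψ hS
      have hterm : ∀ η : Cfsg.IrrCharacter G, (Nat.card (P : Subgroup G) : ℂ) *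
          ((η : G → ℂ) u ^ 2 / (η : G → ℂ) 1 * rr p (η : G → ℂ)) =
          (if η = oneChar G then (halfCard P : ℂ) + 1 else 0) -
            (if η = F.ψ then (halfCard P : ℂ) * x ^ 2 / (d : ℂ) else 0) +
            (if η ∈ Finset.univ.image F.χ then (1 + x) ^ 2 / (1 + (d : ℂ)) else 0) := by
        intro η
        rw [mul_left_comm (Nat.card (P : Subgroup G) : ℂ), F.card_mul_rr hS η]
        by_cases e1 : η = oneChar G
        · subst e1
          simp only [if_pos, if_neg (F.ψ_ne_one hS).symm]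
          rw [h1, if_neg]
          · simp [oneChar_apply]
          · simp only [Finset.mem_image, Finset.mem_univ, true_and, not_exists]
            exact fun lam => (F.χ_ne_one hS lam).1
        by_cases e2 : η = F.ψ
        · subst e2
          simp only [if_pos, if_neg e1]
          rw [hψ, if_neg]
          · rw [hxdef, hdC]
            rcases F.σ_pm with c | c <;> rw [c] <;> push_cast <;> field_simp <;> ring
          · simp only [Finset.mem_image, Finset.mem_univ, true_and, not_exists]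
            exact fun lam => F.χ_ne lam
        simp only [if_neg e1, if_neg e2]
        by_cases e3 : ∃ lam, F.χ lam = η
        · obtain ⟨lam, rfl⟩ := e3
          rw [if_pos (Finset.mem_image_of_mem _ (Finset.mem_univ lam)), F.eta_χ hS,
            F.χ_regular hS lam hureg,
            F.χ_regular hS lam (by rw [orderOf_one]; exact hp.out.not_dvd_one), ← hxdef, ← hdC]
          rcases F.e_pm lam with c | c <;> rw [c] <;> push_cast <;>
            simp only [div_eq_mul_inv, mul_inv] <;> ring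
        · rw [F.eta_of_not (not_exists.1 e3), if_neg]
          · simp
          · simpa [Finset.mem_image] using e3
      rw [Finset.sum_congr rfl fun η _ => hterm η, Finset.sum_add_distrib, Finset.sum_sub_distrib,
        Finset.sum_ite_eq', Finset.sum_ite_eq', Finset.sum_ite_mem, Finset.univ_inter,
        Finset.sum_const, nsmul_eq_mul, if_pos (Finset.mem_univ _), if_pos (Finset.mem_univ _)]
      rw [show (Finset.univ.image F.χ).card = halfCard P by convert F.card_image hS]
      ring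

theorem card_complement {G0 : Subgroup G} (hle : (P : Subgroup G) ≤ G0) :
    Nat.card ↥((P.subtype hle : Sylow p G0) : Subgroup G0) = Nat.card (P : Subgroup G) :=
  Nat.card_congr (Subgroup.subgroupOfEquivOfLe hle).toEquiv

/-- The Sylow subgroup is normal. -/
theorem sylow_normal : (P : Subgroup G).Normal := by
  classical
  obtain ⟨M, hM⟩ := Blocks.exists_isPModular p hp.out
  obtain ⟨F⟩ := hS.exists_fam
  have hlin := hS.fam_linear F
  obtain ⟨n, hn⟩ := exists_degree (isCharacter_irr F.ψ)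
  have hσ1 : F.σ = 1 ∧ n = 1 := by
    rw [hn] at hlin
    have h : ((F.σ * n : ℤ) : ℂ) = ((1 : ℤ) : ℂ) := by push_cast; exact hlin
    have h' := Int.cast_injective h
    rcases F.σ_pm with c | c <;> rw [c] at h' <;> constructor <;> omega
  have h11 : (F.ψ : G → ℂ) 1 = 1 := by rw [hn, hσ1.2]; norm_num
  set G0 := charKer (isCharacter_irr F.ψ) with hG0
  haveI hG0n : G0.Normal := charKer_normal _
  have hmem : ∀ g, g ∈ G0 ↔ (F.ψ : G → ℂ) g = 1 := fun g => by rw [hG0, mem_charKer, h11]
  have hsing : ∀ g : G, p ∣ orderOf g → g ∈ G0 := fun g hg => by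
    rw [hmem, F.ψ_singular hS hM hg, hσ1.1]; norm_num
  have hPle : (P : Subgroup G) ≤ G0 := fun x hx => by
    rcases eq_or_ne x 1 with rfl | hx1
    · exact one_mem _
    obtain ⟨k, hk⟩ := P.2 ⟨x, hx⟩
    have hxk : x ^ p ^ k = 1 := by simpa using congrArg Subtype.val hk
    refine hsing x ?_
    obtain ⟨j, -, hj⟩ := (Nat.dvd_prime_pow hp.out).1 (orderOf_dvd_of_pow_eq_one hxk)
    rcases j with _ | j
    · exact absurd (orderOf_eq_one_iff.1 (by simpa using hj)) hx1
    · rw [hj]; exact dvd_pow_self p (Nat.succ_ne_zero j)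
  have hCle : ∀ c, (∀ x ∈ (P : Subgroup G), c * x * c⁻¹ = x) → c ∈ G0 := fun c hc => by
    by_cases hreg : p ∣ orderOf c
    · exact hsing c hreg
    obtain ⟨x, hx, hx1⟩ := hS.exists_ne_one_mem
    obtain ⟨k, hk⟩ := P.2 ⟨x, hx⟩
    have hxk : x ^ p ^ k = 1 := by simpa using congrArg Subtype.val hk
    have hcx : Commute x c := by
      have := hc x hx
      rw [mul_inv_eq_iff_eq_mul] at this
      exact this.symm
    have hs : p ∣ orderOf (x * c) := by
      by_contra h
      exact hx1 ((parts_of_eq hcx hxk hreg).1.symm.trans (ppt_eq_one_of_regular h))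
    have := mul_mem (inv_mem (hPle hx)) (hsing _ hs)
    rwa [inv_mul_cancel_left] at this
  have hne : G0 ≠ ⊤ := fun h => F.ψ_ne_one hS (Subtype.ext (funext fun g => by
    rw [(hmem g).1 (h ▸ Subgroup.mem_top g), oneChar_apply]))
  set Q : Sylow p G0 := P.subtype hPle
  have hQ : ∀ y : G0, y ∈ (Q : Subgroup G0) ↔ (y : G) ∈ (P : Subgroup G) := fun y => Iff.rfl
  have hmapQ : (Q : Subgroup G0).map G0.subtype = (P : Subgroup G) :=
    Subgroup.map_subgroupOf_eq_of_le hPle
  have hfr := Q.normalizer_sup_eq_top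
  rw [hmapQ] at hfr
  have hnc : Subgroup.normalizer ((Q : Subgroup G0) : Set G0) ≤
      Subgroup.centralizer ((Q : Subgroup G0) : Set G0) := by
    intro m hm
    have hmP : (m : G) ∈ Subgroup.normalizer ((P : Subgroup G) : Set G) := by
      rw [Subgroup.mem_normalizer_iff]
      intro y
      constructor
      · intro hy
        exact (hQ _).1 ((Subgroup.mem_normalizer_iff.1 hm ⟨y, hPle hy⟩).1 hy)
      · intro hy
        have hy' : y ∈ G0 := by
          have h1 := mul_mem (mul_mem (inv_mem m.2) (hPle hy)) m.2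
          simpa [mul_assoc] using h1
        exact (hQ ⟨y, hy'⟩).1 ((Subgroup.mem_normalizer_iff.1 hm ⟨y, hy'⟩).2 hy)
    rcases hS.pm _ hmP with h1 | h1
    · refine Subgroup.mem_centralizer_iff.2 fun y hy => Subtype.ext ?_
      have h2 := h1 y hy
      rw [mul_inv_eq_iff_eq_mul] at h2
      exact h2.symm
    · exfalso
      have hN : Subgroup.normalizer ((P : Subgroup G) : Set G) ≤ G0 := by
        intro g hg
        rcases hS.pm g hg with h2 | h2
        · exact hCle g h2
        · have h3 : (m : G)⁻¹ * g ∈ G0 := hCle _ fun y hy => by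
            calc (m : G)⁻¹ * g * y * ((m : G)⁻¹ * g)⁻¹ = (m : G)⁻¹ * (g * y * g⁻¹) * m := by group
              _ = (m : G)⁻¹ * ((m : G) * y * (m : G)⁻¹) * m := by rw [h2 y hy, h1 y hy]
              _ = y := by group
          simpa using mul_mem m.2 h3
      exact hne (top_le_iff.1 (hfr ▸ sup_le hN le_rfl))
  obtain ⟨hcore, hcard⟩ := core_of_norm_central Q hnc
  have hbot : Cfsg.pPrimeCore p G0 = ⊥ := by
    set K := (Cfsg.pPrimeCore p G0).map G0.subtype
    haveI : K.Normal := ⟨by
      rintro _ ⟨y, hy, rfl⟩ g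
      refine ⟨⟨g * (y : G) * g⁻¹, hG0n.conj_mem _ y.2 g⟩, (hcore _).2 ?_, rfl⟩
      rw [← Subgroup.orderOf_coe]
      show ¬ p ∣ orderOf (MulAut.conj g (y : G))
      rw [(MulAut.conj g).orderOf_eq, Subgroup.orderOf_coe]
      exact (hcore y).1 hy⟩
    have hK : ¬ p ∣ Nat.card K := by
      rw [Nat.card_congr (Subgroup.equivMapOfInjective _ G0.subtype Subtype.val_injective).toEquiv.symm]
      exact Cores.not_dvd_card_pPrimeCore p
    have hle := Cores.le_pPrimeCore_of_not_dvd hK
    rw [hS.core, le_bot_iff, Subgroup.map_eq_bot_iff_of_injective _ Subtype.val_injective] at hle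
    exact hle
  rw [hbot, Subgroup.card_bot, one_mul, hS.card_complement hPle] at hcard
  rw [Subgroup.eq_of_le_of_card_ge hPle hcard.ge]
  exact hG0n

end Setting

end Cfsg.Agent.Lib.SmithTyrer56
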