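import Cfsg.Agent.Lib.SmithTyrer56.Setting

/-!
# The sum of a lift over the group

For an even function vanishing at the identity,
`2|P| ∑ g, lift f g = |G| ∑ x, f x`.
-/

set_option autoImplicit false
set_option linter.style.haveILetI false

namespace Cfsg.Agent.Lib.SmithTyrer56

universe u

variable {G : Type u} [Group G] {p : ℕ} [Finite G] [hp : Fact p.Prime] {P : Sylow p G}

open scoped Classical in
/-- The number of elements with `p`-part conjugate to `x`, times the order of the centraliser. -/
theorem card_pptConj_mul [Fintype G] (x : G) :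
    (Finset.univ.filter fun g : G => IsConj (ppt p g) x).card *
        Nat.card (Subgroup.centralizer ({x} : Set G)) =
      Nat.card G * Nat.card {g : G // ppt p g = x} := by
  have h1 : ∑ h : G, ∑ g : G, (if h * ppt p g * h⁻¹ = x then 1 else 0) =
      Nat.card G * Nat.card {g : G // ppt p g = x} := by
    rw [Nat.card_eq_fintype_card, ← Finset.card_univ, ← smul_eq_mul, ← Finset.sum_const]
    refine Finset.sum_congr rfl fun h _ => ?_
    rw [Fintype.sum_equiv (MulAut.conj h).toEquiv _ (fun g => if ppt p g = x then 1 else 0)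
      fun g => by simp [ppt_conj]]
    rw [← Finset.sum_filter, Finset.sum_const, smul_eq_mul, mul_one, Nat.card_eq_fintype_card,
      Fintype.card_subtype]
  rw [← h1, Finset.sum_comm, Finset.card_filter, Finset.sum_mul]
  refine Finset.sum_congr rfl fun g _ => ?_
  by_cases hc : IsConj (ppt p g) x
  · rw [if_pos hc, one_mul]
    obtain ⟨c, hc'⟩ := isConj_iff.1 hc
    rw [← Finset.sum_filter, Finset.sum_const, smul_eq_mul, mul_one, ← Fintype.card_subtype,
      ← Nat.card_eq_fintype_card]
    refine Nat.card_congr
      { toFun := fun k => ⟨(k : G) * c, ?_⟩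
        invFun := fun h => ⟨(h : G) * c⁻¹, ?_⟩
        left_inv := fun k => Subtype.ext (mul_inv_cancel_right _ _)
        right_inv := fun h => Subtype.ext (inv_mul_cancel_right _ _) }
    · calc (k : G) * c * ppt p g * ((k : G) * c)⁻¹
          = (k : G) * (c * ppt p g * c⁻¹) * (k : G)⁻¹ := by group
        _ = x := by
          rw [hc', Subgroup.mem_centralizer_singleton_iff.1 k.2, mul_inv_cancel_right]
    · rw [Subgroup.mem_centralizer_singleton_iff]
      have hh := h.2
      calc (h : G) * c⁻¹ * x = (h : G) * c⁻¹ * (c * ppt p g * c⁻¹) := by rw [hc']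
        _ = ((h : G) * ppt p g * (h : G)⁻¹) * ((h : G) * c⁻¹) := by group
        _ = x * ((h : G) * c⁻¹) := by rw [hh]
  · rw [if_neg hc, zero_mul]
    symm
    refine Finset.sum_eq_zero fun h _ => if_neg fun hh => hc (isConj_iff.2 ⟨h, hh⟩)

namespace Setting

variable (hS : Setting P)
include hS

/-- The elements with a given `p`-part correspond to the core of its centraliser. -/
theorem card_ppt_eq {x : G} (hx : x ∈ (P : Subgroup G)) (hx1 : x ≠ 1) :
    Nat.card {g : G // ppt p g = x} =
      Nat.card (Cfsg.pPrimeCore p (Subgroup.centralizer ({x} : Set G))) := by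
  have hK := (hS.centralizer_core hx hx1).1
  obtain ⟨k0, hk0⟩ := P.2 ⟨x, hx⟩
  have hxp : x ^ p ^ k0 = 1 := by simpa using congrArg Subtype.val hk0
  refine Nat.card_congr
    { toFun := fun g => ⟨⟨rpt p (g : G), ?_⟩, ?_⟩
      invFun := fun k => ⟨x * ((k : Subgroup.centralizer ({x} : Set G)) : G), ?_⟩
      left_inv := fun g => Subtype.ext ?_
      right_inv := fun k => Subtype.ext (Subtype.ext ?_) }
  · rw [Subgroup.mem_centralizer_singleton_iff]
    obtain ⟨g', hg'⟩ := g
    subst hg'
    exact (commute_ppt_rpt (p := p) g').eq.symm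
  · rw [hK, ← Subgroup.orderOf_coe]
    exact rpt_regular _
  · refine (parts_of_eq (p := p) ?_ hxp ?_).1
    · exact (Subgroup.mem_centralizer_singleton_iff.1 (k : Subgroup.centralizer ({x} : Set G)).2).symm
    · rw [Subgroup.orderOf_coe]
      exact (hK _).1 k.2
  · obtain ⟨g', hg'⟩ := g
    subst hg'
    exact ppt_mul_rpt g'
  · show rpt p (x * _) = _
    refine (parts_of_eq (p := p) ?_ hxp ?_).2
    · exact (Subgroup.mem_centralizer_singleton_iff.1 (k : Subgroup.centralizer ({x} : Set G)).2).symm
    · rw [Subgroup.orderOf_coe]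
      exact (hK _).1 k.2

open scoped Classical in
theorem card_pptConj [Fintype G] {x : G} (hx : x ∈ (P : Subgroup G)) (hx1 : x ≠ 1) :
    (Finset.univ.filter fun g : G => IsConj (ppt p g) x).card * Nat.card (P : Subgroup G) =
      Nat.card G := by
  have h := card_pptConj_mul (p := p) x
  rw [hS.card_ppt_eq hx hx1, ← (hS.centralizer_core hx hx1).2, mul_left_comm,
    mul_comm (Nat.card G)] at h
  exact Nat.eq_of_mul_eq_mul_left Nat.card_pos h

/-- The sum of a lift over the group. -/
theorem sum_lift [Fintype G] [Fintype ↥(P : Subgroup G)] {f : ↥(P : Subgroup G) → ℂ}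
    (hf : IsEvenFun P f) (hf1 : f 1 = 0) :
    2 * (Nat.card (P : Subgroup G) : ℂ) * ∑ g : G, lift P f g =
      (Nat.card G : ℂ) * ∑ x : ↥(P : Subgroup G), f x := by
  classical
  have h2 : ∀ g : G, 2 * lift P f g =
      ∑ x : ↥(P : Subgroup G), (if IsConj (ppt p g) (x : G) then f x else 0) := by
    intro g
    have hr := (exists_rep P g).choose_spec
    set h0 := (exists_rep P g).choose
    set r := rep P g with hrdef
    have hconj : IsConj (ppt p g) (r : G) := isConj_iff.2 ⟨h0, rfl⟩
    have key : ∀ x : ↥(P : Subgroup G), IsConj (ppt p g) (x : G) → x = r ∨ x = r⁻¹ := by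
      intro x hx
      obtain ⟨c, hc⟩ := isConj_iff.1 (hconj.symm.trans hx)
      rcases hS.fusion r.2 x.2 hc with e | e
      · exact Or.inl (Subtype.ext e)
      · exact Or.inr (Subtype.ext e)
    by_cases hr1 : r = 1
    · have hl : lift P f g = 0 := by rw [lift, ← hrdef, hr1, hf1]
      rw [hl, mul_zero, eq_comm]
      refine Finset.sum_eq_zero fun x _ => ?_
      split_ifs with hx
      · rcases key x hx with e | e <;> simp [e, hr1, hf1]
      · rfl
    · have hne : r⁻¹ ≠ r := fun e => hS.inv_ne_self r.2
        (fun e' => hr1 (Subtype.ext e')) (congrArg Subtype.val e)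
      have hset : (Finset.univ.filter fun x : ↥(P : Subgroup G) =>
          IsConj (ppt p g) (x : G)) = {r, r⁻¹} := by
        ext x
        simp only [Finset.mem_filter, Finset.mem_univ, true_and, Finset.mem_insert,
          Finset.mem_singleton]
        refine ⟨key x, ?_⟩
        rintro (rfl | rfl)
        · exact hconj
        · obtain ⟨n, hn⟩ := hS.inv
          exact hconj.trans (isConj_iff.2 ⟨n, by simpa using hn r r.2⟩)
      rw [← Finset.sum_filter, hset, Finset.sum_pair hne.symm, hf, two_mul]
      rfl
  calc 2 * (Nat.card (P : Subgroup G) : ℂ) * ∑ g : G, lift P f g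
      = (Nat.card (P : Subgroup G) : ℂ) * ∑ g : G, 2 * lift P f g := by
        rw [← Finset.mul_sum]; ring
    _ = ∑ x : ↥(P : Subgroup G), ((Finset.univ.filter fun g : G =>
          IsConj (ppt p g) (x : G)).card * Nat.card (P : Subgroup G) : ℕ) * f x := by
        simp only [h2]
        rw [Finset.sum_comm, Finset.mul_sum]
        refine Finset.sum_congr rfl fun x _ => ?_
        rw [← Finset.sum_filter, Finset.sum_const, nsmul_eq_mul]
        push_cast
        ring
    _ = (Nat.card G : ℂ) * ∑ x : ↥(P : Subgroup G), f x := by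
        rw [Finset.mul_sum]
        refine Finset.sum_congr rfl fun x _ => ?_
        rcases eq_or_ne x 1 with rfl | hx
        · rw [hf1, mul_zero, mul_zero]
        · rw [hS.card_pptConj x.2 (fun e => hx (Subtype.ext e))]

end Setting

end Cfsg.Agent.Lib.SmithTyrer56
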