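import Cfsg.Agent.Lib.SmithTyrer56.Setting
import Mathlib.GroupTheory.FiniteAbelian.Basic
import Mathlib.GroupTheory.GroupAction.Quotient

/-!
# A central extension of order `p|G|` in which two elements of `P` do not commute

For homomorphisms `λ, μ : P → ℤ/p` the transfer of the product cocycle
`c(g,h) = ∑ λ(γ(g,hω)) μ(γ(h,ω))` over the cosets `ω` of `P` restricts to a cocycle of `P` whose
alternation is `|G:P| (λ x μ y - λ y μ x)`.
-/

set_option autoImplicit false
set_option linter.style.haveILetI false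

namespace Cfsg.Agent.Lib.SmithTyrer56

universe u

/-- A normalised two-cocycle with trivial action. -/
structure Cocycle (p : ℕ) (G : Type u) [Group G] where
  c : G → G → ZMod p
  assoc : ∀ g h k, c g h + c (g * h) k = c h k + c g (h * k)
  one_left : ∀ g, c 1 g = 0
  one_right : ∀ g, c g 1 = 0

/-- The extension defined by a cocycle. -/
@[ext]
structure CExt {p : ℕ} {G : Type u} [Group G] (C : Cocycle p G) : Type u where
  fst : ZMod p
  snd : G

namespace CExt

variable {p : ℕ} {G : Type u} [Group G] {C : Cocycle p G}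

instance : Mul (CExt C) := ⟨fun x y => ⟨x.fst + y.fst + C.c x.snd y.snd, x.snd * y.snd⟩⟩
instance : One (CExt C) := ⟨⟨0, 1⟩⟩
instance : Inv (CExt C) := ⟨fun x => ⟨-x.fst - C.c x.snd⁻¹ x.snd, x.snd⁻¹⟩⟩

@[simp] theorem mul_fst (x y : CExt C) : (x * y).fst = x.fst + y.fst + C.c x.snd y.snd := rfl
@[simp] theorem mul_snd (x y : CExt C) : (x * y).snd = x.snd * y.snd := rfl
@[simp] theorem one_fst : (1 : CExt C).fst = 0 := rfl
@[simp] theorem one_snd : (1 : CExt C).snd = 1 := rfl
@[simp] theorem inv_fst (x : CExt C) : x⁻¹.fst = -x.fst - C.c x.snd⁻¹ x.snd := rfl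
@[simp] theorem inv_snd (x : CExt C) : x⁻¹.snd = x.snd⁻¹ := rfl

instance : Group (CExt C) :=
  Group.ofLeftAxioms
    (fun x y z => CExt.ext (by
      simp only [mul_fst, mul_snd]
      linear_combination C.assoc x.snd y.snd z.snd) (mul_assoc _ _ _))
    (fun x => CExt.ext (by simp [C.one_left]) (by simp))
    (fun x => CExt.ext (by simp only [mul_fst, inv_fst, inv_snd, one_fst]; ring) (by simp))

/-- The projection. -/
def proj (C : Cocycle p G) : CExt C →* G where
  toFun x := x.snd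
  map_one' := rfl
  map_mul' _ _ := rfl

theorem proj_surjective : Function.Surjective (proj C) := fun g => ⟨⟨0, g⟩, rfl⟩

theorem ker_le_center : (proj C).ker ≤ Subgroup.center (CExt C) := by
  intro x hx
  have hx' : x.snd = 1 := hx
  refine Subgroup.mem_center_iff.2 fun y => CExt.ext ?_ ?_
  · simp [hx', C.one_left, C.one_right]; ring
  · simp [hx']

theorem card_ker [NeZero p] : Nat.card (proj C).ker = p := by
  refine Eq.trans (Nat.card_congr ?_) (Nat.card_zmod p)
  exact
    { toFun := fun x => x.1.fst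
      invFun := fun t => ⟨⟨t, 1⟩, rfl⟩
      left_inv := fun x => Subtype.ext (CExt.ext rfl (x.2 : x.1.snd = 1).symm)
      right_inv := fun t => rfl }

instance [NeZero p] [Finite G] : Finite (CExt C) :=
  Finite.of_injective (fun x => (x.fst, x.snd)) fun _ _ h =>
    CExt.ext (congrArg Prod.fst h) (congrArg Prod.snd h)

end CExt

/-- A finite abelian non-cyclic `p`-group has two independent coordinates modulo `p`. -/
theorem exists_coords {A : Type u} [CommGroup A] [Finite A] {p : ℕ} [Fact p.Prime]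
    (hA : IsPGroup p A) (hnc : ¬ IsCyclic A) :
    ∃ (l m : A →* Multiplicative (ZMod p)) (x y : A),
      Multiplicative.toAdd (l x) = 1 ∧ Multiplicative.toAdd (m x) = 0 ∧
      Multiplicative.toAdd (l y) = 0 ∧ Multiplicative.toAdd (m y) = 1 := by
  classical
  obtain ⟨ι, hι, n, hn, ⟨f⟩⟩ := CommGroup.equiv_prod_multiplicative_zmod_of_finite A
  obtain ⟨k, hk⟩ := IsPGroup.iff_card.1 hA
  have hdvd : ∀ i, p ∣ n i := by
    intro i
    haveI : NeZero (n i) := ⟨(Nat.zero_lt_of_lt (hn i)).ne'⟩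
    have h1 : n i ∣ p ^ k := by
      rw [← hk, Nat.card_congr f.toEquiv, Nat.card_pi]
      have := Finset.dvd_prod_of_mem (fun j => Nat.card (Multiplicative (ZMod (n j))))
        (Finset.mem_univ i)
      simpa using this
    obtain ⟨j, -, hj⟩ := (Nat.dvd_prime_pow Fact.out).1 h1
    rcases j with _ | j
    · have := hn i; simp [hj] at this
    · exact hj ▸ dvd_pow_self p (Nat.succ_ne_zero j)
  obtain ⟨i, j, hij⟩ : ∃ i j : ι, i ≠ j := by
    by_contra h
    push Not at h
    refine hnc ?_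
    haveI : Subsingleton ι := ⟨h⟩
    refine ⟨f.symm (fun i => Multiplicative.ofAdd 1), fun a => ?_⟩
    rcases isEmpty_or_nonempty ι with hE | ⟨⟨i0⟩⟩
    · exact ⟨0, f.injective (funext fun i => (hE.false i).elim)⟩
    · haveI : NeZero (n i0) := ⟨(Nat.zero_lt_of_lt (hn i0)).ne'⟩
      refine ⟨((Multiplicative.toAdd (f a i0)).val : ℤ), f.injective (funext fun i => ?_)⟩
      obtain rfl := h i0 i
      simp only [map_zpow, MulEquiv.apply_symm_apply, Pi.pow_apply]
      apply Multiplicative.toAdd.injective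
      rw [toAdd_zpow, toAdd_ofAdd, zsmul_one, Int.cast_natCast, ZMod.natCast_zmod_val]
  set g : (i : ι) → A →* Multiplicative (ZMod p) := fun i =>
    ((ZMod.castHom (hdvd i) (ZMod p)).toAddMonoidHom.toMultiplicative).comp
      ((Pi.evalMonoidHom (fun i => Multiplicative (ZMod (n i))) i).comp f.toMonoidHom)
  have hg : ∀ a b : ι, Multiplicative.toAdd (g a (f.symm (Pi.mulSingle b (Multiplicative.ofAdd 1)))) =
      if a = b then 1 else 0 := by
    intro a b
    simp only [g, MonoidHom.comp_apply, MulEquiv.coe_toMonoidHom, MulEquiv.apply_symm_apply,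
      Pi.evalMonoidHom_apply, AddMonoidHom.toMultiplicative_apply_apply, toAdd_ofAdd]
    by_cases h : a = b
    · subst h
      rw [if_pos rfl, Pi.mulSingle_eq_same, toAdd_ofAdd]
      exact map_one (ZMod.castHom (hdvd a) (ZMod p))
    · rw [if_neg h, Pi.mulSingle_eq_of_ne h, toAdd_one]
      exact map_zero (ZMod.castHom (hdvd a) (ZMod p))
  exact ⟨g i, g j, f.symm (Pi.mulSingle i (Multiplicative.ofAdd 1)),
    f.symm (Pi.mulSingle j (Multiplicative.ofAdd 1)), by rw [hg, if_pos rfl],
    by rw [hg, if_neg hij.symm], by rw [hg, if_neg hij], by rw [hg, if_pos rfl]⟩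

variable {G : Type u} [Group G] {p : ℕ} {P : Sylow p G}

/-- The element `γ(g, ω)` of `P`. -/
noncomputable def gam (P : Sylow p G) (g : G) (ω : G ⧸ (P : Subgroup G)) : ↥(P : Subgroup G) :=
  ⟨(g • ω).out⁻¹ * (g * ω.out), by
    rw [← QuotientGroup.eq, QuotientGroup.out_eq']
    conv_lhs => rw [← QuotientGroup.out_eq' ω]
    rfl⟩

theorem gam_mul (g h : G) (ω : G ⧸ (P : Subgroup G)) :
    gam P (g * h) ω = gam P g (h • ω) * gam P h ω := by
  apply Subtype.ext
  simp only [gam, Subgroup.coe_mul, mul_smul]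
  group

/-- The additive coordinate of `γ`. -/
noncomputable def gamL (P : Sylow p G) (l : ↥(P : Subgroup G) →* Multiplicative (ZMod p)) (g : G)
    (ω : G ⧸ (P : Subgroup G)) : ZMod p :=
  Multiplicative.toAdd (l (gam P g ω))

theorem gamL_mul (l : ↥(P : Subgroup G) →* Multiplicative (ZMod p)) (g h : G)
    (ω : G ⧸ (P : Subgroup G)) : gamL P l (g * h) ω = gamL P l g (h • ω) + gamL P l h ω := by
  simp only [gamL, gam_mul, map_mul, toAdd_mul]

theorem gamL_one (l : ↥(P : Subgroup G) →* Multiplicative (ZMod p))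
    (ω : G ⧸ (P : Subgroup G)) : gamL P l 1 ω = 0 := by
  have h := gamL_mul l 1 1 ω
  rw [mul_one, one_smul] at h
  exact left_eq_add.1 h

variable [Finite G]

open scoped Classical in
/-- The transferred product cocycle. -/
noncomputable def coresCocycle [Fintype (G ⧸ (P : Subgroup G))]
    (l m : ↥(P : Subgroup G) →* Multiplicative (ZMod p)) : Cocycle p G where
  c g h := ∑ ω : G ⧸ (P : Subgroup G), gamL P l g (h • ω) * gamL P m h ω
  assoc g h k := by
    simp only [gamL_mul, add_mul, mul_add, mul_smul, Finset.sum_add_distrib]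
    rw [Fintype.sum_equiv (MulAction.toPerm k) (fun ω => gamL P l g (h • k • ω) * gamL P m h (k • ω))
      (fun ω => gamL P l g (h • ω) * gamL P m h ω) fun ω => rfl]
    ring
  one_left g := Finset.sum_eq_zero fun ω _ => by rw [gamL_one, zero_mul]
  one_right g := Finset.sum_eq_zero fun ω _ => by rw [gamL_one, mul_zero]

namespace Setting

variable [hp : Fact p.Prime] (hS : Setting P)
include hS

/-- On a subgroup of `P` fixing a coset, conjugation into `P` is a uniform sign. -/
theorem exists_sign (g0 : G) :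
    ∃ ε : ℤ, (ε = 1 ∨ ε = -1) ∧ ∀ s : ↥(P : Subgroup G),
      g0⁻¹ * (s : G) * g0 ∈ (P : Subgroup G) → g0⁻¹ * (s : G) * g0 = (s : G) ^ ε := by
  have hcase : ∀ s : ↥(P : Subgroup G), g0⁻¹ * (s : G) * g0 ∈ (P : Subgroup G) →
      g0⁻¹ * (s : G) * g0 = s ∨ g0⁻¹ * (s : G) * g0 = (s : G)⁻¹ := fun s hs =>
    hS.fusion s.2 hs (g := g0⁻¹) (by rw [inv_inv])
  by_cases hall : ∀ s : ↥(P : Subgroup G), g0⁻¹ * (s : G) * g0 ∈ (P : Subgroup G) →
      g0⁻¹ * (s : G) * g0 = s
  · exact ⟨1, Or.inl rfl, fun s hs => by rw [zpow_one]; exact hall s hs⟩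
  push Not at hall
  obtain ⟨t, ht, htne⟩ := hall
  have ht' := (hcase t ht).resolve_left htne
  refine ⟨-1, Or.inr rfl, fun s hs => ?_⟩
  rw [zpow_neg_one]
  rcases hcase s hs with h | h
  swap
  · exact h
  have hst : g0⁻¹ * ((s * t : ↥(P : Subgroup G)) : G) * g0 = (s : G) * (t : G)⁻¹ := by
    calc g0⁻¹ * ((s * t : ↥(P : Subgroup G)) : G) * g0
        = (g0⁻¹ * (s : G) * g0) * (g0⁻¹ * (t : G) * g0) := by rw [Subgroup.coe_mul]; group
      _ = _ := by rw [h, ht']
  have hmem : g0⁻¹ * ((s * t : ↥(P : Subgroup G)) : G) * g0 ∈ (P : Subgroup G) :=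
    hst ▸ mul_mem s.2 (inv_mem t.2)
  rcases hcase (s * t) hmem with e | e
  · rw [hst, Subgroup.coe_mul, mul_right_inj] at e
    exact absurd (ht'.trans e) htne
  · rw [hst, Subgroup.coe_mul, mul_inv_rev, hS.comm s s.2 _ (inv_mem t.2), mul_right_inj] at e
    rw [h]; exact e

open scoped Classical in
/-- The cocycle does not vanish on a commutator of elements of `P`. -/
theorem cores_alt [Fintype (G ⧸ (P : Subgroup G))]
    (l m : ↥(P : Subgroup G) →* Multiplicative (ZMod p)) {x y : ↥(P : Subgroup G)}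
    (hlx : Multiplicative.toAdd (l x) = 1) (hmx : Multiplicative.toAdd (m x) = 0)
    (hly : Multiplicative.toAdd (l y) = 0) (hmy : Multiplicative.toAdd (m y) = 1) :
    (coresCocycle l m).c (x : G) (y : G) ≠ (coresCocycle l m).c (y : G) (x : G) := by
  letI : CommGroup ↥(P : Subgroup G) :=
    { (inferInstance : Group ↥(P : Subgroup G)) with
      mul_comm := fun a b => Subtype.ext (hS.comm a a.2 b b.2) }
  choose eps heps1 heps using hS.exists_sign
  let Ω := G ⧸ (P : Subgroup G)
  let orep : Ω → Ω := fun ω =>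
    (Quotient.mk (MulAction.orbitRel ↥(P : Subgroup G) Ω) ω).out
  have horep : ∀ (z : ↥(P : Subgroup G)) (ω : Ω), orep ((z : G) • ω) = orep ω := fun z ω =>
    congrArg Quotient.out (Quotient.sound (s := MulAction.orbitRel ↥(P : Subgroup G) Ω) ⟨z, rfl⟩)
  have hex : ∀ ω : Ω, ∃ q : ↥(P : Subgroup G), (q : G) • orep ω = ω := fun ω => by
    obtain ⟨q, hq⟩ := Quotient.mk_out (s := MulAction.orbitRel ↥(P : Subgroup G) Ω) ω
    refine ⟨q⁻¹, ?_⟩
    show ((q⁻¹ : ↥(P : Subgroup G)) : G) • orep ω = ω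
    rw [Subgroup.coe_inv, inv_smul_eq_iff]
    exact hq.symm
  choose q hq using hex
  have hη : ∀ ω : Ω, ((q ω : G) * (orep ω).out)⁻¹ * ω.out ∈ (P : Subgroup G) := fun ω => by
    rw [← QuotientGroup.eq, QuotientGroup.out_eq']
    conv_rhs => rw [← hq ω, ← QuotientGroup.out_eq' (orep ω)]
    rfl
  let E : Ω → ℤ := fun ω => eps (orep ω).out
  let φ : Ω → ↥(P : Subgroup G) := fun ω => q ω ^ E ω * ⟨_, hη ω⟩
  have hgam : ∀ (z : ↥(P : Subgroup G)) (ω : Ω),
      gam P (z : G) ω = z ^ E ω * φ ω * (φ ((z : G) • ω))⁻¹ := by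
    intro z ω
    set ω' := (z : G) • ω with hω'
    have ho : orep ω' = orep ω := horep z ω
    set s : ↥(P : Subgroup G) := (q ω')⁻¹ * z * q ω with hs
    set g0 := (orep ω).out
    have hsfix : (s : G) • orep ω = orep ω := by
      rw [hs, Subgroup.coe_mul, Subgroup.coe_mul, Subgroup.coe_inv, mul_smul, mul_smul, hq ω,
        inv_smul_eq_iff, ← hω']
      conv_lhs => rw [← hq ω', ho]
    have hsP : g0⁻¹ * (s : G) * g0 ∈ (P : Subgroup G) := by
      rw [mul_assoc, ← QuotientGroup.eq, QuotientGroup.out_eq']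
      conv_lhs => rw [← hsfix, ← QuotientGroup.out_eq' (orep ω)]
      rfl
    have hconj : g0⁻¹ * (s : G) * g0 = ((s ^ E ω : ↥(P : Subgroup G)) : G) := by
      rw [SubgroupClass.coe_zpow]; exact heps g0 s hsP
    have e1 : gam P (z : G) ω = (⟨_, hη ω'⟩ : ↥(P : Subgroup G))⁻¹ * s ^ E ω * ⟨_, hη ω⟩ := by
      apply Subtype.ext
      rw [Subgroup.coe_mul, Subgroup.coe_mul, Subgroup.coe_inv, ← hconj]
      simp only [gam, hs, Subgroup.coe_mul, Subgroup.coe_inv, ho, ← hω', g0]
      group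
    have hE : E ω' = E ω := by simp only [E, ho]
    rw [e1]
    simp only [φ, hE, hs, mul_zpow, inv_zpow, mul_inv]
    simp only [mul_comm, mul_left_comm, mul_assoc]
  have hL : ∀ (k : ↥(P : Subgroup G) →* Multiplicative (ZMod p)) (z : ↥(P : Subgroup G)) (ω : Ω),
      gamL P k (z : G) ω = (E ω : ZMod p) * Multiplicative.toAdd (k z) +
        (Multiplicative.toAdd (k (φ ω)) - Multiplicative.toAdd (k (φ ((z : G) • ω)))) := by
    intro k z ω
    simp only [gamL, hgam, map_mul, map_zpow, map_inv, toAdd_mul, toAdd_zpow, toAdd_inv,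
      zsmul_eq_mul]
    ring
  set A : Ω → ZMod p := fun ω => Multiplicative.toAdd (l (φ ω))
  set B : Ω → ZMod p := fun ω => Multiplicative.toAdd (m (φ ω))
  have hEinv : ∀ (z : ↥(P : Subgroup G)) (ω : Ω), E ((z : G) • ω) = E ω := fun z ω => by
    simp only [E, horep]
  have hre : ∀ (z : ↥(P : Subgroup G)) (f : Ω → ZMod p), ∑ ω, f ((z : G) • ω) = ∑ ω, f ω :=
    fun z f => Fintype.sum_equiv (MulAction.toPerm (z : G)) _ _ fun _ => rfl
  have hcomm : ∀ ω : Ω, (y : G) • (x : G) • ω = (x : G) • (y : G) • ω := fun ω => by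
    rw [← mul_smul, ← mul_smul, hS.comm y y.2 x x.2]
  have hEsq : ∀ ω, (E ω : ZMod p) * (E ω : ZMod p) = 1 := by
    intro ω
    rcases heps1 (orep ω).out with h | h <;> simp [E, h]
  have hEA : ∀ (z : ↥(P : Subgroup G)) (f : Ω → ZMod p),
      ∑ ω, (E ω : ZMod p) * f ((z : G) • ω) = ∑ ω, (E ω : ZMod p) * f ω := fun z f => by
    rw [← hre z fun ω => (E ω : ZMod p) * f ω]
    simp only [hEinv]
  have key : (coresCocycle l m).c (x : G) (y : G) - (coresCocycle l m).c (y : G) (x : G) =
      ∑ ω : Ω, (1 : ZMod p) := by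
    show ∑ ω : Ω, gamL P l (x : G) ((y : G) • ω) * gamL P m (y : G) ω -
      ∑ ω : Ω, gamL P l (y : G) ((x : G) • ω) * gamL P m (x : G) ω = _
    have p1 := hre y fun ω => A ω * B ω
    have p2 := hre x fun ω => A ω * B ω
    have p3 := hre y fun ω => A ((x : G) • ω) * B ω
    have p4 := hre x fun ω => A ((y : G) • ω) * B ω
    have e1 := hEA y B
    have e2 : ∑ ω, (E ω : ZMod p) * A ((x : G) • (y : G) • ω) =
        ∑ ω, (E ω : ZMod p) * A ω := (hEA y fun ω => A ((x : G) • ω)).trans (hEA x A)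
    have e3 := hEA y A
    simp only [hL, hlx, hmx, hly, hmy, mul_one, mul_zero, zero_add, hEinv, hcomm, add_mul, mul_add,
      sub_mul, mul_sub, Finset.sum_add_distrib, Finset.sum_sub_distrib, hEsq]
    simp only [A, B] at p1 p2 p3 p4 e1 e2 e3 ⊢
    simp only [hcomm] at p4 ⊢
    simp only [mul_comm _ ((E _ : ℤ) : ZMod p)] at *
    linear_combination -p1 + p2 + p3 - p4 + (e3 - e2) - e1
  intro hc
  rw [hc, sub_self, Finset.sum_const, Finset.card_univ, nsmul_one, ← Nat.card_eq_fintype_card,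
    eq_comm, ZMod.natCast_eq_zero_iff] at key
  exact P.not_dvd_index key

/-- The central extension. -/
theorem exists_extension :
    ∃ (H : Type u) (_ : Group H) (_ : Finite H) (π : H →* G), Function.Surjective π ∧
      π.ker ≤ Subgroup.center H ∧ Nat.card π.ker = p ∧
      ∃ a b : H, π a ∈ (P : Subgroup G) ∧ π b ∈ (P : Subgroup G) ∧ a * b ≠ b * a := by
  classical
  letI := Fintype.ofFinite (G ⧸ (P : Subgroup G))
  letI : CommGroup ↥(P : Subgroup G) :=
    { (inferInstance : Group ↥(P : Subgroup G)) with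
      mul_comm := fun a b => Subtype.ext (hS.comm a a.2 b b.2) }
  obtain ⟨l, m, x, y, hlx, hmx, hly, hmy⟩ :=
    exists_coords (A := ↥(P : Subgroup G)) P.2 hS.notCyclic
  refine ⟨CExt (coresCocycle l m), inferInstance, inferInstance, CExt.proj _,
    CExt.proj_surjective, CExt.ker_le_center, CExt.card_ker, ⟨0, x⟩, ⟨0, y⟩, x.2, y.2, fun h => ?_⟩
  have h1 := congrArg CExt.fst h
  simp only [CExt.mul_fst, zero_add] at h1
  exact hS.cores_alt l m hlx hmx hly hmy h1

end Setting

end Cfsg.Agent.Lib.SmithTyrer56
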