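import Cfsg.Agent.Lib.Characters.Complete
import Cfsg.Agent.Lib.Isometry.Inner

/-!
# Norm two vectors with pairwise inner product one

At least four distinct generalised characters of norm two with pairwise inner product one have a
common signed constituent.
-/

set_option autoImplicit false

namespace Cfsg.Agent.Lib.SmithTyrer56

universe u v

/-- The combinatorial statement about integer vectors. -/
theorem star_int {K : Type u} [Fintype K] {I : Type v} (c : I → K → ℤ)
    (hn : ∀ i, ∑ k, c i k ^ 2 = 2)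
    (hi : ∀ i j, c i ≠ c j → ∑ k, c i k * c j k = 1)
    (h4 : ∀ i j l : I, ∃ m, c m ≠ c i ∧ c m ≠ c j ∧ c m ≠ c l) [Nonempty I] :
    ∃ (k0 : K) (σ : ℤ), (σ = 1 ∨ σ = -1) ∧ ∀ i, c i k0 = σ ∧
      ∃ k, k ≠ k0 ∧ (c i k = 1 ∨ c i k = -1) ∧ ∀ x, x ≠ k0 → x ≠ k → c i x = 0 := by
  classical
  have hval : ∀ i k, c i k ≠ 0 → (c i k = 1 ∨ c i k = -1) := fun i k hk => by
    have h1 : c i k ^ 2 ≤ 2 := hn i ▸
      Finset.single_le_sum (f := fun x => c i x ^ 2) (fun x _ => sq_nonneg _) (Finset.mem_univ k)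
    have h2 : c i k ≤ 1 := by nlinarith
    have h3 : -1 ≤ c i k := by nlinarith
    omega
  have hsq : ∀ i k, c i k ^ 2 = if c i k ≠ 0 then 1 else 0 := fun i k => by
    by_cases hk : c i k = 0
    · simp [hk]
    · rw [if_pos hk]; rcases hval i k hk with h | h <;> simp [h]
  set S : I → Finset K := fun i => Finset.univ.filter fun k => c i k ≠ 0
  have hS : ∀ i, (S i).card = 2 := fun i => by
    have h := hn i
    simp only [hsq, Finset.sum_boole] at h
    exact_mod_cast h
  have hmem : ∀ i k, k ∈ S i ↔ c i k ≠ 0 := fun i k => by simp [S]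
  -- two distinct vectors share exactly one signed constituent
  have hone : ∀ i j, c i ≠ c j → ∃ k, c i k ≠ 0 ∧ c j k = c i k ∧
      ∀ x, c i x ≠ 0 → c j x ≠ 0 → x = k := by
    intro i j hne
    have hsum : ∑ k ∈ S i ∩ S j, c i k * c j k = 1 := by
      rw [← hi i j hne]
      refine Finset.sum_subset (Finset.subset_univ _) fun x _ hx => ?_
      simp only [Finset.mem_inter, hmem, not_and_or, not_not] at hx
      rcases hx with h | h <;> simp [h]
    have hcard : (S i ∩ S j).card ≤ 2 := (Finset.card_le_card Finset.inter_subset_left).trans (hS i).le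
    have hcases : (S i ∩ S j).card = 0 ∨ (S i ∩ S j).card = 1 ∨ (S i ∩ S j).card = 2 := by omega
    rcases hcases with h0 | h1 | h2
    · rw [Finset.card_eq_zero.1 h0] at hsum
      simp at hsum
    · obtain ⟨k, hk⟩ := Finset.card_eq_one.1 h1
      rw [hk, Finset.sum_singleton] at hsum
      have hkm : k ∈ S i ∩ S j := hk ▸ Finset.mem_singleton_self k
      rw [Finset.mem_inter, hmem, hmem] at hkm
      refine ⟨k, hkm.1, ?_, fun x hxi hxj => ?_⟩
      · rcases Int.eq_one_or_neg_one_of_mul_eq_one hsum with h | h <;> rw [h] at hsum ⊢ <;> omega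
      · exact Finset.mem_singleton.1 (hk ▸ Finset.mem_inter.2 ⟨(hmem i x).2 hxi, (hmem j x).2 hxj⟩)
    · obtain ⟨x, y, hxy, he⟩ := Finset.card_eq_two.1 h2
      rw [he, Finset.sum_pair hxy] at hsum
      have hx : x ∈ S i ∩ S j := he ▸ Finset.mem_insert_self x _
      have hy : y ∈ S i ∩ S j := he ▸ Finset.mem_insert_of_mem (Finset.mem_singleton_self y)
      rw [Finset.mem_inter, hmem, hmem] at hx hy
      rcases hval i x hx.1 with a | a <;> rcases hval j x hx.2 with b | b <;>
        rcases hval i y hy.1 with a' | a' <;> rcases hval j y hy.2 with b' | b' <;>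
        rw [a, b, a', b'] at hsum <;> omega
  obtain ⟨i1⟩ := ‹Nonempty I›
  obtain ⟨i2, h21, -, -⟩ := h4 i1 i1 i1
  obtain ⟨k0, hk1, hk2, hk0⟩ := hone i1 i2 h21.symm
  have hall : ∀ i, c i k0 ≠ 0 := by
    intro i hi0
    have hne1 : c i ≠ c i1 := fun e => hk1 (by rw [← e]; exact hi0)
    have hne2 : c i ≠ c i2 := fun e => hk1 (by rw [← hk2, ← e]; exact hi0)
    obtain ⟨j, hji, hj1, hj2⟩ := h4 i i1 i2
    obtain ⟨a, hai, ha, -⟩ := hone i i1 hne1
    obtain ⟨b, hbi, hb, -⟩ := hone i i2 hne2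
    have hak : a ≠ k0 := fun e => hai (e ▸ hi0)
    have hbk : b ≠ k0 := fun e => hbi (e ▸ hi0)
    have hab : a ≠ b := fun e => hak (hk0 a (ha ▸ hai) (e ▸ hb ▸ hbi))
    have hSi : S i = {a, b} := (Finset.eq_of_subset_of_card_le
      (by intro x hx; rcases Finset.mem_insert.1 hx with rfl | hx
          · exact (hmem i x).2 hai
          · exact (hmem i x).2 (Finset.mem_singleton.1 hx ▸ hbi))
      (by rw [hS, Finset.card_pair hab])).symm
    have hS1 : S i1 = {k0, a} := (Finset.eq_of_subset_of_card_le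
      (by intro x hx; rcases Finset.mem_insert.1 hx with rfl | hx
          · exact (hmem i1 x).2 hk1
          · rw [Finset.mem_singleton.1 hx]; exact (hmem i1 a).2 (ha ▸ hai))
      (by rw [hS, Finset.card_pair hak.symm])).symm
    have hS2 : S i2 = {k0, b} := (Finset.eq_of_subset_of_card_le
      (by intro x hx; rcases Finset.mem_insert.1 hx with rfl | hx
          · exact (hmem i2 x).2 (hk2 ▸ hk1)
          · rw [Finset.mem_singleton.1 hx]; exact (hmem i2 b).2 (hb ▸ hbi))
      (by rw [hS, Finset.card_pair hbk.symm])).symm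
    obtain ⟨q, hqj, hq, -⟩ := hone j i hji
    have hqi : q ∈ S i := (hmem i q).2 (hq ▸ hqj)
    obtain ⟨r1, hr1j, hr1, hu1⟩ := hone j i1 hj1
    obtain ⟨r2, hr2j, hr2, hu2⟩ := hone j i2 hj2
    have hr1' : r1 ∈ S i1 := (hmem i1 r1).2 (hr1 ▸ hr1j)
    have hr2' : r2 ∈ S i2 := (hmem i2 r2).2 (hr2 ▸ hr2j)
    rw [hS1, Finset.mem_insert, Finset.mem_singleton] at hr1'
    rw [hS2, Finset.mem_insert, Finset.mem_singleton] at hr2'
    rw [hSi, Finset.mem_insert, Finset.mem_singleton] at hqi
    by_cases hjk : c j k0 = 0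
    · rcases hr1' with rfl | rfl
      · exact hr1j hjk
      rcases hr2' with rfl | rfl
      · exact hr2j hjk
      -- then `j` has the support and the values of `i`
      refine hji (funext fun x => ?_)
      have hSj : S j = {r1, r2} := (Finset.eq_of_subset_of_card_le
        (by intro x hx; rcases Finset.mem_insert.1 hx with rfl | hx
            · exact (hmem j x).2 hr1j
            · rw [Finset.mem_singleton.1 hx]; exact (hmem j r2).2 hr2j)
        (by rw [hS, Finset.card_pair hab])).symm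
      by_cases hx : x = r1
      · rw [hx, ← hr1, ha]
      by_cases hx' : x = r2
      · rw [hx', ← hr2, hb]
      have h1 : x ∉ S j := by rw [hSj]; simp [hx, hx']
      have h2 : x ∉ S i := by rw [hSi]; simp [hx, hx']
      rw [hmem, not_not] at h1 h2
      rw [h1, h2]
    · rcases hqi with rfl | rfl
      · exact hak ((hu1 q hqj (ha ▸ hai)).trans (hu1 k0 hjk hk1).symm)
      · exact hbk ((hu2 q hqj (hb ▸ hbi)).trans (hu2 k0 hjk (hk2 ▸ hk1)).symm)
  refine ⟨k0, c i1 k0, hval i1 k0 hk1, fun i => ⟨?_, ?_⟩⟩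
  · by_cases h : c i = c i1
    · rw [h]
    · obtain ⟨r, hr, hr1, hu⟩ := hone i i1 h
      rw [hu k0 (hall i) hk1]
      exact hr1.symm
  · have hk : k0 ∈ S i := (hmem i k0).2 (hall i)
    obtain ⟨k, hk'⟩ := Finset.card_eq_one.1 (show ((S i).erase k0).card = 1 by
      rw [Finset.card_erase_of_mem hk, hS])
    have hk2' : k ∈ (S i).erase k0 := hk' ▸ Finset.mem_singleton_self k
    rw [Finset.mem_erase, hmem] at hk2'
    refine ⟨k, hk2'.1, hval i k hk2'.2, fun x hx hxk => ?_⟩
    by_contra h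
    exact hxk (Finset.mem_singleton.1 (hk' ▸ Finset.mem_erase.2 ⟨hx, (hmem i x).2 h⟩))

open Cfsg.Agent.Lib.Characters.Basic Cfsg.Agent.Lib.Isometry.Inner
open Cfsg.Agent.Lib.Induced.Basic (classInner_smul_left)

/-- The statement for generalised characters. -/
theorem star_char {G : Type u} [Group G] [Fintype G] {I : Type v} [Nonempty I]
    (θ : I → G → ℂ) (hg : ∀ i, Cfsg.IsGeneralizedCharacter G (θ i))
    (hn : ∀ i, Cfsg.classInner (θ i) (θ i) = 2)
    (hi : ∀ i j, θ i ≠ θ j → Cfsg.classInner (θ i) (θ j) = 1)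
    (h4 : ∀ i j l : I, ∃ m, θ m ≠ θ i ∧ θ m ≠ θ j ∧ θ m ≠ θ l) :
    ∃ (ψ : Cfsg.IrrCharacter G) (σ : ℤ) (χ : I → Cfsg.IrrCharacter G) (e : I → ℤ),
      (σ = 1 ∨ σ = -1) ∧ ∀ i, (e i = 1 ∨ e i = -1) ∧ χ i ≠ ψ ∧
        θ i = (σ : ℂ) • (ψ : G → ℂ) - (e i : ℂ) • (χ i : G → ℂ) := by
  classical
  letI := Fintype.ofFinite (Cfsg.IrrCharacter G)
  choose c hc he hn' using fun i => gen_coeff (hg i)
  have hce : ∀ i j, c i = c j ↔ θ i = θ j := fun i j => by
    refine ⟨fun h => by rw [he i, he j, h], fun h => funext fun χ => ?_⟩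
    exact_mod_cast (hc i χ).symm.trans ((congrArg (Cfsg.classInner · (χ : G → ℂ)) h).trans (hc j χ))
  obtain ⟨ψ, σ, hσ, hall⟩ := star_int c
    (fun i => by
      have h := (hn' i).symm.trans (hn i)
      exact_mod_cast h)
    (fun i j hne => by
      have h := hi i j (fun e => hne ((hce i j).2 e))
      rw [he j, classInner_sum_right] at h
      simp only [Cfsg.Agent.Lib.Induced.Basic.classInner_smul_right, hc, map_intCast] at h
      have h' : ((∑ k, c j k * c i k : ℤ) : ℂ) = ((1 : ℤ) : ℂ) := by push_cast; exact h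
      rw [← Int.cast_injective h']
      exact Finset.sum_congr rfl fun k _ => mul_comm _ _)
    (fun i j l => by
      obtain ⟨m, h1, h2, h3⟩ := h4 i j l
      exact ⟨m, fun e => h1 ((hce m i).1 e), fun e => h2 ((hce m j).1 e),
        fun e => h3 ((hce m l).1 e)⟩)
  choose hψ χ hne hval hrest using hall
  refine ⟨ψ, σ, χ, fun i => -c i (χ i), hσ, fun i => ⟨by rcases hval i with h | h <;> simp [h],
    hne i, ?_⟩⟩
  conv_lhs => rw [he i]
  rw [← Finset.sum_subset (Finset.subset_univ ({ψ, χ i} : Finset _)) fun x _ hx => ?_,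
    Finset.sum_pair (hne i).symm, hψ i]
  · push_cast
    rw [neg_smul, sub_neg_eq_add]
  · simp only [Finset.mem_insert, Finset.mem_singleton, not_or] at hx
    rw [hrest i x hx.1 hx.2, Int.cast_zero, zero_smul]

end Cfsg.Agent.Lib.SmithTyrer56
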