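import Cfsg.Agent.Lib.SmithTyrer56.Count
import Cfsg.Agent.Lib.SmithTyrer56.Star
import Cfsg.Agent.Lib.Characters.Linear

/-!
# The coherent family attached to the linear characters of `P`
-/

set_option autoImplicit false
set_option linter.style.haveILetI false

namespace Cfsg.Agent.Lib.SmithTyrer56

open scoped ComplexConjugate
open Cfsg.Agent.Lib.Isometry.Inner Cfsg.Agent.Lib.Characters.Basic
  Cfsg.Agent.Lib.Characters.Linear
open Cfsg.Agent.Lib.Induced.Basic (classInner_add_left classInner_add_right classInner_sub_left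
  classInner_sub_right classInner_smul_left classInner_smul_right classInner_conj_symm)

universe u

variable {G : Type u} [Group G] {p : ℕ}

/-- The non-trivial linear characters of `P`. -/
abbrev Lin (P : Sylow p G) := {lam : ↥(P : Subgroup G) →* ℂˣ // lam ≠ 1}

/-- The even function `2 - λ - λ⁻¹`. -/
noncomputable def fl (P : Sylow p G) (lam : ↥(P : Subgroup G) →* ℂˣ) (x : ↥(P : Subgroup G)) : ℂ :=
  2 - (lam x : ℂ) - (lam x⁻¹ : ℂ)

/-- The generalised characters `Θ_λ - 1`. -/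
noncomputable def theta [Finite G] [Fact p.Prime] (P : Sylow p G)
    (lam : ↥(P : Subgroup G) →* ℂˣ) : G → ℂ :=
  lift P (fl P lam) - 1

theorem fl_even (P : Sylow p G) (lam : ↥(P : Subgroup G) →* ℂˣ) : IsEvenFun P (fl P lam) := by
  intro x
  simp only [fl, inv_inv]
  ring

theorem fl_one (P : Sylow p G) (lam : ↥(P : Subgroup G) →* ℂˣ) : fl P lam 1 = 0 := by
  simp [fl]; norm_num

theorem fl_inv (P : Sylow p G) (lam : ↥(P : Subgroup G) →* ℂˣ) : fl P lam⁻¹ = fl P lam := by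
  funext x
  simp only [fl, MonoidHom.inv_apply, map_inv, inv_inv]
  ring

variable [Finite G] [hp : Fact p.Prime] {P : Sylow p G}

omit hp in
theorem conj_fl (lam : ↥(P : Subgroup G) →* ℂˣ) (x : ↥(P : Subgroup G)) :
    conj (fl P lam x) = fl P lam x := by
  have h : ∀ y, conj (lam y : ℂ) = (lam y⁻¹ : ℂ) := fun y => by
    have := apply_inv (isCharacter_irr (linChar lam)) y
    rw [linChar_apply, linChar_apply] at this
    exact this.symm
  simp only [fl, map_sub, h, inv_inv, map_ofNat]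
  ring

theorem fl_gen (lam : ↥(P : Subgroup G) →* ℂˣ) :
    Cfsg.IsGeneralizedCharacter ↥(P : Subgroup G) (fl P lam) := by
  have h : fl P lam = ((2 : ℤ) : ℂ) • ((oneChar ↥(P : Subgroup G)) : ↥(P : Subgroup G) → ℂ) -
      (linChar lam : ↥(P : Subgroup G) → ℂ) - (linChar lam⁻¹ : ↥(P : Subgroup G) → ℂ) := by
    funext x
    simp [fl, oneChar_apply, linChar_apply]
  rw [h]
  exact gen_sub (gen_sub (gen_intCast_smul (gen_of_irr (oneChar _).2) 2)
    (gen_of_irr (linChar lam).2)) (gen_of_irr (linChar lam⁻¹).2)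

namespace Setting

variable (hS : Setting P)
include hS

theorem card_dual : Nat.card (↥(P : Subgroup G) →* ℂˣ) = Nat.card (P : Subgroup G) := by
  letI : CommGroup ↥(P : Subgroup G) :=
    { (inferInstance : Group ↥(P : Subgroup G)) with
      mul_comm := fun a b => Subtype.ext (hS.comm a a.2 b b.2) }
  exact CommGroup.card_monoidHom_of_hasEnoughRootsOfUnity _ ℂ

omit hp in
theorem finite_dual : Finite (↥(P : Subgroup G) →* ℂˣ) :=
  Nat.finite_of_card_ne_zero (by
    letI : CommGroup ↥(P : Subgroup G) :=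
      { (inferInstance : Group ↥(P : Subgroup G)) with
        mul_comm := fun a b => Subtype.ext (hS.comm a a.2 b b.2) }
    rw [CommGroup.card_monoidHom_of_hasEnoughRootsOfUnity _ ℂ]
    exact Nat.card_pos.ne')

omit hp in
theorem sum_dual [Fintype (↥(P : Subgroup G) →* ℂˣ)] {x : ↥(P : Subgroup G)} (hx : x ≠ 1) :
    ∑ lam : ↥(P : Subgroup G) →* ℂˣ, (lam x : ℂ) = 0 := by
  letI : CommGroup ↥(P : Subgroup G) :=
    { (inferInstance : Group ↥(P : Subgroup G)) with
      mul_comm := fun a b => Subtype.ext (hS.comm a a.2 b b.2) }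
  obtain ⟨mu, hmu⟩ :=
    CommGroup.exists_apply_ne_one_of_hasEnoughRootsOfUnity ↥(P : Subgroup G) ℂ hx
  have h1 : (mu x : ℂ) * ∑ lam : ↥(P : Subgroup G) →* ℂˣ, (lam x : ℂ) =
      ∑ lam : ↥(P : Subgroup G) →* ℂˣ, (lam x : ℂ) := by
    rw [Finset.mul_sum]
    exact Fintype.sum_equiv (Equiv.mulLeft mu) _ _ fun lam => by simp
  have h2 : ((mu x : ℂ) - 1) * ∑ lam : ↥(P : Subgroup G) →* ℂˣ, (lam x : ℂ) = 0 := by
    rw [sub_mul, h1, one_mul, sub_self]
  rcases mul_eq_zero.1 h2 with h | h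
  · exact absurd (Units.ext (sub_eq_zero.1 h)) hmu
  · exact h

omit hp hS in
theorem sum_char [Fintype ↥(P : Subgroup G)] {lam : ↥(P : Subgroup G) →* ℂˣ} (hlam : lam ≠ 1) :
    ∑ x : ↥(P : Subgroup G), (lam x : ℂ) = 0 := by
  obtain ⟨y, hy⟩ : ∃ y, lam y ≠ 1 := by
    by_contra h
    push Not at h
    exact hlam (MonoidHom.ext h)
  have h1 : (lam y : ℂ) * ∑ x, (lam x : ℂ) = ∑ x, (lam x : ℂ) := by
    rw [Finset.mul_sum]
    exact Fintype.sum_equiv (Equiv.mulLeft y) _ _ fun x => by simp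
  have h2 : ((lam y : ℂ) - 1) * ∑ x, (lam x : ℂ) = 0 := by rw [sub_mul, h1, one_mul, sub_self]
  rcases mul_eq_zero.1 h2 with h | h
  · exact absurd (Units.ext (sub_eq_zero.1 h)) hy
  · exact h

theorem card_P : 9 ≤ Nat.card (P : Subgroup G) ∧
    Nat.card (P : Subgroup G) = 2 * (Nat.card (P : Subgroup G) / 2) + 1 := by
  obtain ⟨k, hk⟩ := IsPGroup.iff_card.1 P.2
  have hodd : Odd p := hp.out.odd_of_ne_two hS.odd
  have hk2 : 2 ≤ k := by
    by_contra h
    interval_cases k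
    · haveI : Subsingleton ↥(P : Subgroup G) :=
        (Nat.card_eq_one_iff_unique.1 (by rw [hk, pow_zero])).1
      exact hS.notCyclic isCyclic_of_subsingleton
    · exact hS.notCyclic (isCyclic_of_prime_card (p := p) (by rw [hk, pow_one]))
  constructor
  · rw [hk]
    calc 9 = 3 ^ 2 := by norm_num
      _ ≤ p ^ 2 := Nat.pow_le_pow_left (by
          rcases hodd with ⟨j, hj⟩; have := hp.out.two_le; omega) 2
      _ ≤ p ^ k := Nat.pow_le_pow_right hp.out.pos hk2
  · obtain ⟨j, hj⟩ : Odd (Nat.card (P : Subgroup G)) := hk ▸ hodd.pow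
    omega

theorem inv_lin_ne {lam : ↥(P : Subgroup G) →* ℂˣ} (h1 : lam ≠ 1) : lam⁻¹ ≠ lam := by
  intro h
  haveI := hS.finite_dual
  have h2 : lam ^ 2 = 1 := by rw [sq]; nth_rw 1 [← h]; exact inv_mul_cancel lam
  obtain ⟨-, ho⟩ := hS.card_P
  refine h1 (orderOf_eq_one_iff.1 (Nat.eq_one_of_dvd_coprimes ?_ (orderOf_dvd_natCard lam)
    (orderOf_dvd_of_pow_eq_one h2)))
  rw [hS.card_dual, ho, Nat.coprime_two_right]
  exact odd_two_mul_add_one _

theorem sum_fl [Fintype ↥(P : Subgroup G)] {lam : ↥(P : Subgroup G) →* ℂˣ} (hlam : lam ≠ 1) :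
    ∑ x : ↥(P : Subgroup G), fl P lam x = 2 * (Nat.card (P : Subgroup G) : ℂ) := by
  simp only [fl, Finset.sum_sub_distrib, Finset.sum_const, Finset.card_univ, nsmul_eq_mul]
  rw [sum_char hlam, Fintype.sum_equiv (Equiv.inv _) (fun x => (lam x⁻¹ : ℂ))
    (fun x => (lam x : ℂ)) (fun _ => rfl), sum_char hlam, Nat.card_eq_fintype_card]
  ring

open scoped Classical in
theorem sum_fl_mul [Fintype ↥(P : Subgroup G)] {lam mu : ↥(P : Subgroup G) →* ℂˣ}
    (hlam : lam ≠ 1) (hmu : mu ≠ 1) :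
    ∑ x : ↥(P : Subgroup G), fl P lam x * fl P mu x =
      2 * (Nat.card (P : Subgroup G) : ℂ) *
        (2 + if lam = mu ∨ lam = mu⁻¹ then 1 else 0) := by
  have hsum : ∀ nu : ↥(P : Subgroup G) →* ℂˣ, ∑ x : ↥(P : Subgroup G), (nu x : ℂ) =
      if nu = 1 then (Nat.card (P : Subgroup G) : ℂ) else 0 := fun nu => by
    split_ifs with h
    · subst h; simp [Nat.card_eq_fintype_card]
    · exact sum_char h
  have h1 : ∀ x, fl P lam x * fl P mu x = 2 * fl P lam x + 2 * fl P mu x - 4 +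
      (((lam * mu) x : ℂ) + ((lam * mu⁻¹) x : ℂ) + ((lam⁻¹ * mu) x : ℂ) +
        ((lam⁻¹ * mu⁻¹) x : ℂ)) := fun x => by
    simp only [fl, MonoidHom.mul_apply, MonoidHom.inv_apply, map_inv, Units.val_mul]
    ring
  have a1 : lam * mu = 1 ↔ lam = mu⁻¹ := mul_eq_one_iff_eq_inv (G := ↥(P : Subgroup G) →* ℂˣ)
  have a2 : lam * mu⁻¹ = 1 ↔ lam = mu := mul_inv_eq_one (G := ↥(P : Subgroup G) →* ℂˣ)
  have a3 : lam⁻¹ * mu = 1 ↔ lam = mu := inv_mul_eq_one (G := ↥(P : Subgroup G) →* ℂˣ)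
  have a4 : lam⁻¹ * mu⁻¹ = 1 ↔ lam = mu⁻¹ := by
    exact inv_mul_eq_one (G := ↥(P : Subgroup G) →* ℂˣ)
  simp only [h1, Finset.sum_add_distrib, Finset.sum_sub_distrib, ← Finset.mul_sum, hsum,
    hS.sum_fl hlam, hS.sum_fl hmu, Finset.sum_const, Finset.card_univ, nsmul_eq_mul,
    ← Nat.card_eq_fintype_card, a1, a2, a3, a4]
  have hex : ¬ (lam = mu ∧ lam = mu⁻¹) := fun h => hS.inv_lin_ne hmu (h.2.symm.trans h.1)
  by_cases e : lam = mu
  · rw [if_pos e, if_neg fun e' => hex ⟨e, e'⟩, if_pos (Or.inl e)]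
    ring
  · by_cases e' : lam = mu⁻¹
    · rw [if_pos e', if_neg e, if_pos (Or.inr e')]
      ring
    · rw [if_neg e, if_neg e', if_neg (not_or.2 ⟨e, e'⟩)]
      ring

/-- `theta λ` is a generalised character. -/
theorem theta_gen (lam : ↥(P : Subgroup G) →* ℂˣ) :
    Cfsg.IsGeneralizedCharacter G (theta P lam) :=
  gen_sub (hS.lift_gen (fl_even P lam) (fl_gen lam)) (gen_of_isCharacter isCharacter_one)

theorem lift_fl_inner [Fintype G] [Fintype ↥(P : Subgroup G)]
    (f : ↥(P : Subgroup G) → ℂ) (hf : IsEvenFun P f) (lam : ↥(P : Subgroup G) →* ℂˣ) :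
    2 * (Nat.card (P : Subgroup G) : ℂ) * Cfsg.classInner (lift P f) (lift P (fl P lam)) =
      ∑ x : ↥(P : Subgroup G), f x * fl P lam x := by
  have h := hS.sum_lift (f := fun x => f x * fl P lam x)
    (fun x => by simp only [hf x, fl_even P lam x]) (by simp [fl_one])
  have hG : (Nat.card G : ℂ) ≠ 0 := Nat.cast_ne_zero.mpr Nat.card_pos.ne'
  have h2 : ∑ g : G, lift P f g * conj (lift P (fl P lam) g) =
      ∑ g : G, lift P (fun x => f x * fl P lam x) g :=
    Finset.sum_congr rfl fun g _ => by simp only [lift, conj_fl]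
  rw [Cfsg.classInner, h2, mul_left_comm, h, ← mul_assoc, inv_mul_cancel₀ hG, one_mul]

open scoped Classical in
theorem theta_inner [Fintype G] {lam mu : ↥(P : Subgroup G) →* ℂˣ} (hlam : lam ≠ 1)
    (hmu : mu ≠ 1) :
    Cfsg.classInner (theta P lam) (theta P mu) = 1 + (if lam = mu ∨ lam = mu⁻¹ then 1 else 0) ∧
      Cfsg.classInner (theta P lam) (1 : G → ℂ) = 0 := by
  letI := Fintype.ofFinite ↥(P : Subgroup G)
  have hP : (2 : ℂ) * (Nat.card (P : Subgroup G) : ℂ) ≠ 0 :=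
    mul_ne_zero two_ne_zero (Nat.cast_ne_zero.mpr Nat.card_pos.ne')
  have h11 : Cfsg.classInner (1 : G → ℂ) (1 : G → ℂ) = 1 := classInner_self_irr (oneChar G)
  have hl1 : lift P (fun _ : ↥(P : Subgroup G) => (1 : ℂ)) = (1 : G → ℂ) := rfl
  have hone : ∀ nu, nu ≠ 1 → Cfsg.classInner (1 : G → ℂ) (lift P (fl P nu)) = 1 := fun nu hnu => by
    apply mul_left_cancel₀ hP
    rw [← hl1, hS.lift_fl_inner _ (fun _ => rfl) nu]
    simp [hS.sum_fl hnu]
  have hone' : ∀ nu, nu ≠ 1 → Cfsg.classInner (lift P (fl P nu)) (1 : G → ℂ) = 1 := fun nu hnu => by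
    rw [← classInner_conj_symm (1 : G → ℂ), hone nu hnu, map_one]
  have hmul : Cfsg.classInner (lift P (fl P lam)) (lift P (fl P mu)) =
      2 + if lam = mu ∨ lam = mu⁻¹ then 1 else 0 := by
    apply mul_left_cancel₀ hP
    rw [hS.lift_fl_inner _ (fl_even P lam) mu, hS.sum_fl_mul hlam hmu]
  constructor
  · simp only [theta, classInner_sub_left, classInner_sub_right, hone mu hmu, hone' lam hlam,
      h11, hmul]
    ring
  · simp only [theta, classInner_sub_left, hone' lam hlam, h11, sub_self]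

theorem theta_regular (lam : ↥(P : Subgroup G) →* ℂˣ) {g : G} (hg : ¬ p ∣ orderOf g) :
    theta P lam g = -1 := by
  simp [theta, hS.lift_regular (fl_even P lam) hg, fl_one]

end Setting

/-- The common signed constituent `ψ` and the characters `χ λ`. -/
structure Fam (P : Sylow p G) where
  ψ : Cfsg.IrrCharacter G
  σ : ℤ
  χ : Lin P → Cfsg.IrrCharacter G
  e : Lin P → ℤ
  σ_pm : σ = 1 ∨ σ = -1
  e_pm : ∀ lam, e lam = 1 ∨ e lam = -1
  χ_ne : ∀ lam, χ lam ≠ ψ
  eq : ∀ lam, theta P lam.1 = (σ : ℂ) • (ψ : G → ℂ) - (e lam : ℂ) • (χ lam : G → ℂ)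

theorem Setting.exists_fam (hS : Setting P) : Nonempty (Fam P) := by
  classical
  letI := Fintype.ofFinite G
  haveI := hS.finite_dual
  letI := Fintype.ofFinite (↥(P : Subgroup G) →* ℂˣ)
  obtain ⟨h9, -⟩ := hS.card_P
  have hcard : Fintype.card (↥(P : Subgroup G) →* ℂˣ) = Nat.card (P : Subgroup G) := by
    rw [← Nat.card_eq_fintype_card, hS.card_dual]
  have hpick : ∀ T : Finset (↥(P : Subgroup G) →* ℂˣ), T.card ≤ 7 → ∃ m, m ∉ T := by
    intro T hT
    by_contra h
    push Not at h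
    rw [Finset.eq_univ_iff_forall.2 h, Finset.card_univ, hcard] at hT
    omega
  have hth : ∀ {lam mu : Lin P}, theta P lam.1 = theta P mu.1 →
      lam.1 = mu.1 ∨ lam.1 = mu.1⁻¹ := by
    intro lam mu h
    have h1 := (hS.theta_inner lam.2 mu.2).1
    rw [← h, (hS.theta_inner lam.2 lam.2).1] at h1
    by_contra hne
    rw [if_pos (Or.inl rfl), if_neg hne] at h1
    norm_num at h1
  haveI : Nonempty (Lin P) := by
    obtain ⟨m, hm⟩ := hpick {1} (by simp)
    exact ⟨⟨m, by simpa using hm⟩⟩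
  obtain ⟨ψ, σ, χ, e, hσ, h⟩ := star_char (fun lam : Lin P => theta P lam.1)
    (fun lam => hS.theta_gen lam.1)
    (fun lam => by rw [(hS.theta_inner lam.2 lam.2).1, if_pos (Or.inl rfl)]; norm_num)
    (fun lam mu hne => by
      rw [(hS.theta_inner lam.2 mu.2).1, if_neg, add_zero]
      rintro (h | h)
      · exact hne (by simp only [h])
      · exact hne (by simp only [theta, h, fl_inv]))
    (fun i j l => by
      obtain ⟨m, hm⟩ := hpick ([1, i.1, i.1⁻¹, j.1, j.1⁻¹, l.1, l.1⁻¹].toFinset)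
        (List.toFinset_card_le _)
      simp only [List.mem_toFinset, List.mem_cons, List.not_mem_nil, or_false, not_or] at hm
      refine ⟨⟨m, hm.1⟩, fun h => ?_, fun h => ?_, fun h => ?_⟩ <;>
        rcases hth h with h' | h' <;> simp_all)
  exact ⟨⟨ψ, σ, χ, e, hσ, fun lam => (h lam).1, fun lam => (h lam).2.1, fun lam => (h lam).2.2⟩⟩

end Cfsg.Agent.Lib.SmithTyrer56
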