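import Cfsg.Agent.Lib.SmithTyrer56.Singular
import Cfsg.Agent.Lib.Blocks.Contrib
import Cfsg.Agent.Lib.BrauerMap.Inflation
import Cfsg.Agent.Lib.BC78.Central
import Cfsg.Agent.Lib.Characters.Generalized

/-!
# A central extension by a group of order `p`: the regular elements and twisted class functions
-/

set_option autoImplicit false
set_option linter.style.haveILetI false

namespace Cfsg.Agent.Lib.SmithTyrer56

open scoped ComplexConjugate
open Cfsg.Agent.Lib.Isometry.Inner Cfsg.Agent.Lib.Characters.Basic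
  Cfsg.Agent.Lib.Characters.Linear

universe u

/-- A finite central extension with kernel of order `p`. -/
structure Cover (p : ℕ) (G : Type u) [Group G] (H : Type u) [Group H] where
  π : H →* G
  surj : Function.Surjective π
  central : π.ker ≤ Subgroup.center H
  card_ker : Nat.card π.ker = p

namespace Cover

variable {p : ℕ} {G : Type u} [Group G] {H : Type u} [Group H] (C : Cover p G H)

/-- A section. -/
noncomputable def sec (g : G) : H := (C.surj g).choose

theorem π_sec (g : G) : C.π (C.sec g) = g := (C.surj g).choose_spec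

/-- The lift of order prime to `p` of the `p'`-part. -/
noncomputable def lft (g : G) : H := rpt p (C.sec g)

variable [Finite G] [Finite H] [hp : Fact p.Prime]

omit [Finite G] in
theorem ker_pow {z : H} (hz : z ∈ C.π.ker) : z ^ p ^ 1 = 1 := by
  rw [pow_one, ← orderOf_dvd_iff_pow_eq_one]
  have := C.π.ker.orderOf_dvd_natCard hz
  rwa [C.card_ker] at this

omit [Finite G] hp in
theorem ker_commute {z : H} (hz : z ∈ C.π.ker) (h : H) : Commute z h :=
  (Subgroup.mem_center_iff.1 (C.central hz) h).symm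

theorem π_lft (g : G) : C.π (C.lft g) = rpt p g := by
  rw [lft, ← (map_parts C.π _).2, C.π_sec]

theorem lft_regular (g : G) : ¬ p ∣ orderOf (C.lft g) := rpt_regular _

theorem rpt_eq_lft (h : H) : rpt p h = C.lft (C.π h) := by
  obtain ⟨z, hz, e⟩ : ∃ z ∈ C.π.ker, C.sec (C.π h) = z * h :=
    ⟨C.sec (C.π h) * h⁻¹, by simp [MonoidHom.mem_ker, C.π_sec], (inv_mul_cancel_right _ _).symm⟩
  rw [lft, e, rpt, rpt, (C.ker_commute hz h).mul_pow]
  change rpt p h = rpt p z * rpt p h
  rw [rpt_eq_one_of_ppower (C.ker_pow hz), one_mul]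

theorem regular_π {h : H} (hh : ¬ p ∣ orderOf h) : ¬ p ∣ orderOf (C.π h) :=
  fun hd => hh (hd.trans (orderOf_map_dvd C.π h))

theorem π_lft_of_regular {g : G} (hg : ¬ p ∣ orderOf g) : C.π (C.lft g) = g := by
  rw [C.π_lft, rpt_eq_self_of_regular hg]

/-- The parts of a central multiple of a regular lift. -/
theorem parts_mul_lft {z : H} (hz : z ∈ C.π.ker) (g : G) :
    ppt p (z * C.lft g) = z ∧ rpt p (z * C.lft g) = C.lft g :=
  parts_of_eq (C.ker_commute hz _) (C.ker_pow hz) (C.lft_regular g)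

open scoped Classical in
/-- Summing over the elements with regular image. -/
theorem sum_over_regular [Fintype G] [Fintype H] [Fintype C.π.ker] (F : H → ℂ) :
    ∑ h : H, (if p ∣ orderOf (C.π h) then 0 else F h) =
      ∑ z : C.π.ker, ∑ g : G, if p ∣ orderOf g then 0 else F ((z : H) * C.lft g) := by
  rw [Finset.sum_comm (γ := C.π.ker),
    ← Finset.sum_fiberwise (Finset.univ : Finset H) C.π fun h => if p ∣ orderOf (C.π h) then 0 else F h]
  refine Finset.sum_congr rfl fun g _ => ?_
  by_cases hg : p ∣ orderOf g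
  · rw [Finset.sum_eq_zero fun h hh => ?_]
    · exact (Finset.sum_eq_zero fun z _ => if_pos hg).symm
    · rw [(Finset.mem_filter.1 hh).2, if_pos hg]
  · have hpl : C.π (C.lft g) = g := C.π_lft_of_regular hg
    refine Finset.sum_bij' (fun h hh => (⟨h * (C.lft g)⁻¹, by
        rw [MonoidHom.mem_ker, map_mul, map_inv, hpl, (Finset.mem_filter.1 hh).2,
          mul_inv_cancel]⟩ : C.π.ker))
      (fun z _ => (z : H) * C.lft g) (fun _ _ => Finset.mem_univ _)
      (fun z _ => Finset.mem_filter.2 ⟨Finset.mem_univ _, by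
        rw [map_mul, MonoidHom.mem_ker.1 z.2, hpl, one_mul]⟩)
      (fun h _ => inv_mul_cancel_right _ _)
      (fun z _ => Subtype.ext (mul_inv_cancel_right _ _)) fun h hh => ?_
    simp only [inv_mul_cancel_right]
    rw [if_neg hg, if_neg (show ¬ p ∣ orderOf (C.π h) by rwa [(Finset.mem_filter.1 hh).2])]

include C in
omit [Finite G] [Finite H] hp in
theorem card_eq : Nat.card H = p * Nat.card G := by
  rw [← Subgroup.card_mul_index C.π.ker, C.card_ker, Subgroup.index_ker,
    MonoidHom.range_eq_top.2 C.surj, Nat.card_congr Subgroup.topEquiv.toEquiv]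

/-- Regular averages upstairs. -/
theorem rr_upstairs [Fintype G] [Fintype H] (F : H → ℂ) :
    (p : ℂ) * rr p F = rr p fun g => F (C.lft g) := by
  classical
  letI := Fintype.ofFinite C.π.ker
  have h1 : ∑ h : H, (if p ∣ orderOf h then 0 else F h) =
      ∑ g : G, if p ∣ orderOf g then 0 else F (C.lft g) := by
    rw [Finset.sum_congr rfl (g := fun h => if p ∣ orderOf (C.π h) then 0 else
      (if p ∣ orderOf h then 0 else F h)) fun h _ => by
        by_cases hh : p ∣ orderOf h
        · rw [if_pos hh]; simp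
        · rw [if_neg hh, if_neg (C.regular_π hh)]]
    rw [C.sum_over_regular, Finset.sum_eq_single (1 : C.π.ker)]
    · refine Finset.sum_congr rfl fun g _ => ?_
      simp [C.lft_regular g]
    · intro z _ hz
      refine Finset.sum_eq_zero fun g _ => ?_
      split_ifs with hg hd
      · rfl
      · rfl
      · refine absurd ?_ hz
        apply Subtype.ext
        rw [OneMemClass.coe_one, ← (C.parts_mul_lft z.2 g).1]
        exact ppt_eq_one_of_regular hd
    · simp
  have hH : Nat.card H = p * Nat.card G := C.card_eq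
  have hp0 : (p : ℂ) ≠ 0 := Nat.cast_ne_zero.mpr hp.out.ne_zero
  simp only [rr, h1, hH, Nat.cast_mul, mul_inv]
  field_simp

/-- The scalar by which a kernel element acts. -/
noncomputable def cc (ξ : Cfsg.IrrCharacter H) (z : C.π.ker) : ℂ :=
  (ξ : H → ℂ) (z : H) / (ξ : H → ℂ) 1

omit [Finite G] [Finite H] hp in
theorem apply_ker_mul (ξ : Cfsg.IrrCharacter H) (z : C.π.ker) (h : H) :
    (ξ : H → ℂ) ((z : H) * h) = C.cc ξ z * (ξ : H → ℂ) h :=
  BC78.Central.char_mul_central ξ.2 (C.central z.2) h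

omit [Finite G] [Finite H] hp in
theorem cc_mul (ξ : Cfsg.IrrCharacter H) (z z' : C.π.ker) :
    C.cc ξ (z * z') = C.cc ξ z * C.cc ξ z' := by
  rw [cc, Subgroup.coe_mul, C.apply_ker_mul ξ z, mul_div_assoc]
  rfl

omit [Finite G] [Finite H] hp in
theorem cc_one (ξ : Cfsg.IrrCharacter H) : C.cc ξ 1 = 1 :=
  div_self (apply_one_ne_zero ξ)

open scoped Classical in
/-- The twisted class function `h ↦ ν (h_p) φ (π h)` on the elements with regular image. -/
noncomputable def twist (ν : C.π.ker →* ℂˣ) (φ : G → ℂ) (h : H) : ℂ :=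
  if p ∣ orderOf (C.π h) then 0
  else if hz : ppt p h ∈ C.π.ker then (ν ⟨ppt p h, hz⟩ : ℂ) * φ (C.π h) else 0

theorem twist_apply (ν : C.π.ker →* ℂˣ) (φ : G → ℂ) {g : G} (hg : ¬ p ∣ orderOf g)
    (z : C.π.ker) : C.twist ν φ ((z : H) * C.lft g) = (ν z : ℂ) * φ g := by
  have h1 : C.π ((z : H) * C.lft g) = g := by
    rw [map_mul, MonoidHom.mem_ker.1 z.2, one_mul, C.π_lft_of_regular hg]
  have h2 := (C.parts_mul_lft z.2 g).1
  rw [twist, h1, if_neg hg, dif_pos (by rw [h2]; exact z.2)]
  simp only [h2]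

theorem twist_classFun (ν : C.π.ker →* ℂˣ) {φ : G → ℂ} (hφ : Cfsg.IsClassFunction G φ) :
    Cfsg.IsClassFunction H (C.twist ν φ) := by
  intro h k
  have h1 : C.π (k * h * k⁻¹) = C.π k * C.π h * (C.π k)⁻¹ := by simp
  have h2 : orderOf (C.π (k * h * k⁻¹)) = orderOf (C.π h) := by
    rw [h1, ← MulAut.conj_apply]
    exact (MulAut.conj (C.π k)).orderOf_eq (C.π h)
  rw [twist, twist, h2]
  by_cases hh : p ∣ orderOf (C.π h)
  · rw [if_pos hh, if_pos hh]
  rw [if_neg hh, if_neg hh]
  have h3 : ppt p h ∈ C.π.ker := by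
    rw [MonoidHom.mem_ker, ← (map_parts C.π h).1]
    exact ppt_eq_one_of_regular hh
  have h4 : ppt p (k * h * k⁻¹) = ppt p h := by
    rw [ppt_conj, ← (C.ker_commute h3 k).eq, mul_inv_cancel_right]
  rw [dif_pos h3, dif_pos (h4 ▸ h3), h1, hφ (C.π h) (C.π k)]
  simp only [h4]

/-- The multiplicity of `ν` as the central character. -/
noncomputable def mult [Fintype C.π.ker] (ν : C.π.ker →* ℂˣ) (ξ : Cfsg.IrrCharacter H) : ℂ :=
  (p : ℂ)⁻¹ * ∑ z : C.π.ker, C.cc ξ z * conj (ν z : ℂ)

omit [Finite G] in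
theorem conj_hom (ν : C.π.ker →* ℂˣ) (z : C.π.ker) : conj (ν z : ℂ) = (ν z : ℂ)⁻¹ := by
  have h1 := apply_inv (isCharacter_irr (linChar ν)) z
  rw [linChar_apply, linChar_apply, map_inv, Units.val_inv_eq_inv_val] at h1
  exact h1.symm

omit [Finite G] in
open scoped Classical in
theorem mult_eq [Fintype C.π.ker] (ν : C.π.ker →* ℂˣ) (ξ : Cfsg.IrrCharacter H) :
    C.mult ν ξ = if ∀ z, C.cc ξ z = (ν z : ℂ) then 1 else 0 := by
  have hp0 : (p : ℂ) ≠ 0 := Nat.cast_ne_zero.mpr hp.out.ne_zero
  have hν : ∀ z, (ν z : ℂ) ≠ 0 := fun z => (ν z).ne_zero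
  split_ifs with h
  · rw [mult, Finset.sum_congr rfl fun z _ => show C.cc ξ z * conj (ν z : ℂ) = 1 by
      rw [h z, C.conj_hom, mul_inv_cancel₀ (hν z)]]
    rw [Finset.sum_const, Finset.card_univ, ← Nat.card_eq_fintype_card, C.card_ker, nsmul_one,
      inv_mul_cancel₀ hp0]
  · push Not at h
    obtain ⟨z0, hz0⟩ := h
    set f : C.π.ker → ℂ := fun z => C.cc ξ z * conj (ν z : ℂ)
    have hf : ∀ z, f (z0 * z) = f z0 * f z := fun z => by
      simp only [f, C.cc_mul, map_mul, Units.val_mul]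
      ring
    have h1 : f z0 * ∑ z, f z = ∑ z, f z := by
      rw [Finset.mul_sum]
      exact Fintype.sum_equiv (Equiv.mulLeft z0) _ _ fun z => (hf z).symm
    have h2 : (f z0 - 1) * ∑ z, f z = 0 := by rw [sub_mul, h1, one_mul, sub_self]
    rcases mul_eq_zero.1 h2 with h3 | h3
    · refine absurd ?_ hz0
      simp only [f, C.conj_hom, sub_eq_zero] at h3
      exact (mul_inv_eq_one₀ (hν z0)).1 h3
    · show (p : ℂ)⁻¹ * ∑ z, f z = 0
      rw [h3, mul_zero]

open scoped Classical in
/-- The inner product with a twist. -/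
theorem inner_twist [Fintype G] [Fintype H] [Fintype C.π.ker] (ν : C.π.ker →* ℂˣ) (φ : G → ℂ)
    (ξ : Cfsg.IrrCharacter H) :
    Cfsg.classInner (ξ : H → ℂ) (C.twist ν φ) =
      C.mult ν ξ * rr p fun g => (ξ : H → ℂ) (C.lft g) * conj (φ g) := by
  have h1 : ∀ h : H, (ξ : H → ℂ) h * conj (C.twist ν φ h) =
      if p ∣ orderOf (C.π h) then 0 else (ξ : H → ℂ) h * conj (C.twist ν φ h) := fun h => by
    split_ifs with hh
    · rw [twist, if_pos hh, map_zero, mul_zero]
    · rfl
  rw [Cfsg.classInner, Finset.sum_congr rfl fun h _ => h1 h, C.sum_over_regular, mult, rr,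
    C.card_eq, Nat.cast_mul, mul_inv]
  simp only [Finset.mul_sum, Finset.sum_mul]
  rw [Finset.sum_comm (γ := G)]
  refine Finset.sum_congr rfl fun z _ => Finset.sum_congr rfl fun g _ => ?_
  split_ifs with hg
  · ring
  · rw [C.twist_apply ν φ hg, C.apply_ker_mul, map_mul]
    ring

open scoped Classical in
/-- The inner products of twists. -/
theorem twist_twist [Fintype G] [Fintype H] [Fintype C.π.ker] (ν : C.π.ker →* ℂˣ)
    (φ φ' : G → ℂ) :
    Cfsg.classInner (C.twist ν φ) (C.twist ν φ') = rr p fun g => φ g * conj (φ' g) := by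
  have h1 : ∀ h : H, C.twist ν φ h * conj (C.twist ν φ' h) =
      if p ∣ orderOf (C.π h) then 0 else C.twist ν φ h * conj (C.twist ν φ' h) := fun h => by
    split_ifs with hh
    · rw [twist, if_pos hh, zero_mul]
    · rfl
  have hp0 : (p : ℂ) ≠ 0 := Nat.cast_ne_zero.mpr hp.out.ne_zero
  have h2 : ∀ z : C.π.ker, ∑ g : G, (if p ∣ orderOf g then 0 else
      C.twist ν φ ((z : H) * C.lft g) * conj (C.twist ν φ' ((z : H) * C.lft g))) =
      ∑ g : G, if p ∣ orderOf g then 0 else φ g * conj (φ' g) := fun z => by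
    refine Finset.sum_congr rfl fun g _ => ?_
    split_ifs with hg
    · rfl
    · rw [C.twist_apply ν φ hg, C.twist_apply ν φ' hg, map_mul, C.conj_hom]
      field_simp [(ν z).ne_zero]
  rw [Cfsg.classInner, Finset.sum_congr rfl fun h _ => h1 h, C.sum_over_regular,
    Finset.sum_congr rfl fun z _ => h2 z, Finset.sum_const, Finset.card_univ,
    ← Nat.card_eq_fintype_card, C.card_ker, nsmul_eq_mul, C.card_eq, Nat.cast_mul, mul_inv, rr]
  field_simp

/-- Restricting a character to the regular lifts gives a generalised character downstairs. -/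
theorem lft_gen (ξ : Cfsg.IrrCharacter H) :
    Cfsg.IsGeneralizedCharacter G fun g => (ξ : H → ℂ) (C.lft g) := by
  classical
  letI := Fintype.ofFinite G
  letI := Fintype.ofFinite H
  letI := Fintype.ofFinite C.π.ker
  have hcl : Cfsg.IsClassFunction G fun g => (ξ : H → ℂ) (C.lft g) := by
    intro g k
    dsimp only
    have e : k * g * k⁻¹ = C.π (C.sec k * C.sec g * (C.sec k)⁻¹) := by simp [C.π_sec]
    rw [e, ← C.rpt_eq_lft, rpt_conj]
    exact isClassFunction_irr ξ _ _
  refine Characters.Generalized.of_classInner_int hcl fun η => ?_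
  have hgen : Cfsg.IsGeneralizedCharacter H fun h => (ξ : H → ℂ) (rpt p h) :=
    gen_comp_rpt (gen_of_irr ξ.2)
  obtain ⟨n, hn⟩ := classInner_gen_int hgen
    (gen_of_irr (BrauerMap.Inflation.infl C.π C.surj η).2)
  refine ⟨n, hn ▸ ?_⟩
  have hsum : ∀ F : G → ℂ, ∑ h : H, F (C.π h) = (p : ℂ) * ∑ g : G, F g := fun F => by
    rw [← Finset.sum_fiberwise (Finset.univ : Finset H) C.π fun h => F (C.π h), Finset.mul_sum]
    refine Finset.sum_congr rfl fun g _ => ?_
    rw [Finset.sum_congr rfl (g := fun _ => F g) fun h hh => by rw [(Finset.mem_filter.1 hh).2],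
      Finset.sum_const, nsmul_eq_mul]
    congr 2
    rw [← Fintype.card_subtype, ← Nat.card_eq_fintype_card]
    refine Eq.trans ?_ C.card_ker
    refine Nat.card_congr
      { toFun := fun h => ⟨h.1 * (C.sec g)⁻¹, by simp [MonoidHom.mem_ker, h.2, C.π_sec]⟩
        invFun := fun z => ⟨z.1 * C.sec g, by simp [MonoidHom.mem_ker.1 z.2, C.π_sec]⟩
        left_inv := fun h => Subtype.ext (inv_mul_cancel_right _ _)
        right_inv := fun z => Subtype.ext (mul_inv_cancel_right _ _) }
  have hp0 : (p : ℂ) ≠ 0 := Nat.cast_ne_zero.mpr hp.out.ne_zero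
  simp only [Cfsg.classInner, BrauerMap.Inflation.infl_apply, C.rpt_eq_lft, C.card_eq]
  rw [hsum fun g => (ξ : H → ℂ) (C.lft g) * conj ((η : G → ℂ) g), Nat.cast_mul, mul_inv]
  field_simp

end Cover

end Cfsg.Agent.Lib.SmithTyrer56
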