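import Cfsg.Agent.Lib.Brauer.Characterization
import Cfsg.Agent.Lib.Characters.Basic
import Cfsg.Agent.Lib.Isometry.Inner
import Cfsg.Agent.Lib.Blocks.ContribBase
import Mathlib.GroupTheory.Nilpotent

/-!
# The `p`-part and the `p'`-part as powers, and generalised characters built from them

`ppt p g` and `rpt p g` are the two commuting parts of `g`, obtained by fixed exponents.  A class
function whose restriction to every nilpotent subgroup is a generalised character is one; hence
`g ↦ θ (rpt p g)` is one for every generalised character `θ`.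
-/

set_option autoImplicit false
set_option linter.style.haveILetI false

namespace Cfsg.Agent.Lib.SmithTyrer56

open Cfsg.Agent.Lib.Isometry.Inner

universe u v

section Parts

variable {G : Type u} [Group G] {p : ℕ}

theorem exists_projExp (p : ℕ) (hp : p.Prime) (N : ℕ) (hN : N ≠ 0) :
    ∃ e f : ℕ, e ≡ 1 [MOD p ^ N.factorization p] ∧ e ≡ 0 [MOD N / p ^ N.factorization p] ∧
      f ≡ 0 [MOD p ^ N.factorization p] ∧ f ≡ 1 [MOD N / p ^ N.factorization p] := by
  have hc : (p ^ N.factorization p).Coprime (N / p ^ N.factorization p) :=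
    (Nat.coprime_ordCompl hp hN).pow_left _
  exact ⟨(Nat.chineseRemainder hc 1 0).1, (Nat.chineseRemainder hc 0 1).1,
    (Nat.chineseRemainder hc 1 0).2.1, (Nat.chineseRemainder hc 1 0).2.2,
    (Nat.chineseRemainder hc 0 1).2.1, (Nat.chineseRemainder hc 0 1).2.2⟩

open scoped Classical in
/-- The exponent projecting on the `p`-part. -/
noncomputable def pExp (p N : ℕ) : ℕ :=
  if h : p.Prime ∧ N ≠ 0 then (exists_projExp p h.1 N h.2).choose else 0

open scoped Classical in
/-- The exponent projecting on the `p'`-part. -/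
noncomputable def rExp (p N : ℕ) : ℕ :=
  if h : p.Prime ∧ N ≠ 0 then (exists_projExp p h.1 N h.2).choose_spec.choose else 0

/-- The `p`-part of an element. -/
noncomputable def ppt (p : ℕ) (g : G) : G := g ^ pExp p (Nat.card G)

/-- The `p'`-part of an element. -/
noncomputable def rpt (p : ℕ) (g : G) : G := g ^ rExp p (Nat.card G)

variable [Finite G] [hp : Fact p.Prime]

theorem projExp_spec (G : Type u) [Group G] [Finite G] :
    pExp p (Nat.card G) ≡ 1 [MOD p ^ (Nat.card G).factorization p] ∧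
      pExp p (Nat.card G) ≡ 0 [MOD Nat.card G / p ^ (Nat.card G).factorization p] ∧
      rExp p (Nat.card G) ≡ 0 [MOD p ^ (Nat.card G).factorization p] ∧
      rExp p (Nat.card G) ≡ 1 [MOD Nat.card G / p ^ (Nat.card G).factorization p] := by
  have h : p.Prime ∧ Nat.card G ≠ 0 := ⟨hp.out, Nat.card_pos.ne'⟩
  rw [pExp, rExp, dif_pos h, dif_pos h]
  exact (exists_projExp p h.1 _ h.2).choose_spec.choose_spec

theorem ppt_mul_rpt (g : G) : ppt p g * rpt p g = g := by
  rw [ppt, rpt, ← pow_add]
  conv_rhs => rw [← pow_one g]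
  rw [pow_eq_pow_iff_modEq]
  refine Nat.ModEq.of_dvd (orderOf_dvd_natCard g) ?_
  have h := (Nat.modEq_and_modEq_iff_modEq_mul
    (a := pExp p (Nat.card G) + rExp p (Nat.card G)) (b := 1)
    ((Nat.coprime_ordCompl hp.out Nat.card_pos.ne').pow_left ((Nat.card G).factorization p))).1
    ⟨by simpa using (projExp_spec (p := p) G).1.add (projExp_spec (p := p) G).2.2.1,
      by simpa using (projExp_spec (p := p) G).2.1.add (projExp_spec (p := p) G).2.2.2⟩
  rwa [Nat.ordProj_mul_ordCompl_eq_self] at h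

omit [Finite G] hp in
theorem commute_ppt_rpt (g : G) : Commute (ppt p g) (rpt p g) :=
  Commute.pow_pow (Commute.refl g) _ _

theorem ppt_pow_eq_one (g : G) : ppt p g ^ p ^ (Nat.card G).factorization p = 1 := by
  rw [ppt, ← pow_mul, ← orderOf_dvd_iff_pow_eq_one]
  refine (orderOf_dvd_natCard g).trans ?_
  conv_lhs => rw [← Nat.ordProj_mul_ordCompl_eq_self (Nat.card G) p, mul_comm]
  exact Nat.mul_dvd_mul_right (Nat.modEq_zero_iff_dvd.1 (projExp_spec G).2.1) _

theorem rpt_pow_eq_one (g : G) :
    rpt p g ^ (Nat.card G / p ^ (Nat.card G).factorization p) = 1 := by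
  rw [rpt, ← pow_mul, ← orderOf_dvd_iff_pow_eq_one]
  refine (orderOf_dvd_natCard g).trans ?_
  conv_lhs => rw [← Nat.ordProj_mul_ordCompl_eq_self (Nat.card G) p]
  exact Nat.mul_dvd_mul_right (Nat.modEq_zero_iff_dvd.1 (projExp_spec G).2.2.1) _

theorem rpt_regular (g : G) : ¬ p ∣ orderOf (rpt p g) := fun h =>
  Nat.not_dvd_ordCompl hp.out Nat.card_pos.ne'
    (h.trans (orderOf_dvd_of_pow_eq_one (rpt_pow_eq_one g)))

theorem ppt_isPPower (g : G) : ∃ k : ℕ, orderOf (ppt p g) = p ^ k := by
  obtain ⟨k, -, hk⟩ := (Nat.dvd_prime_pow hp.out).1 (orderOf_dvd_of_pow_eq_one (ppt_pow_eq_one g))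
  exact ⟨k, hk⟩

theorem ppt_eq_one_of_regular {g : G} (h : ¬ p ∣ orderOf g) : ppt p g = 1 := by
  rw [ppt, ← orderOf_dvd_iff_pow_eq_one]
  have h1 : orderOf g ∣ Nat.card G / p ^ (Nat.card G).factorization p := by
    refine (Nat.Coprime.pow_right ((Nat.card G).factorization p)
      (hp.out.coprime_iff_not_dvd.2 h).symm).dvd_of_dvd_mul_left ?_
    rw [Nat.ordProj_mul_ordCompl_eq_self]
    exact orderOf_dvd_natCard g
  exact h1.trans (Nat.modEq_zero_iff_dvd.1 (projExp_spec G).2.1)

theorem rpt_eq_self_of_regular {g : G} (h : ¬ p ∣ orderOf g) : rpt p g = g := by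
  have := ppt_mul_rpt (p := p) g
  rwa [ppt_eq_one_of_regular h, one_mul] at this

theorem rpt_eq_one_of_ppower {g : G} {k : ℕ} (h : g ^ p ^ k = 1) : rpt p g = 1 := by
  rw [rpt, ← orderOf_dvd_iff_pow_eq_one]
  obtain ⟨j, -, hj⟩ := (Nat.dvd_prime_pow hp.out).1 (orderOf_dvd_of_pow_eq_one h)
  have h1 : orderOf g ∣ p ^ (Nat.card G).factorization p := by
    rw [hj]
    refine pow_dvd_pow p ((hp.out.pow_dvd_iff_le_factorization Nat.card_pos.ne').1 ?_)
    rw [← hj]
    exact orderOf_dvd_natCard g
  exact h1.trans (Nat.modEq_zero_iff_dvd.1 (projExp_spec G).2.2.1)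

theorem ppt_eq_self_of_ppower {g : G} {k : ℕ} (h : g ^ p ^ k = 1) : ppt p g = g := by
  have := ppt_mul_rpt (p := p) g
  rwa [rpt_eq_one_of_ppower h, mul_one] at this

theorem ppt_eq_one_iff {g : G} : ppt p g = 1 ↔ ¬ p ∣ orderOf g := by
  refine ⟨fun h => ?_, ppt_eq_one_of_regular⟩
  have h1 := ppt_mul_rpt (p := p) g
  rw [h, one_mul] at h1
  exact h1 ▸ rpt_regular g

omit [Finite G] hp in
theorem ppt_one : ppt p (1 : G) = 1 := one_pow _

omit [Finite G] hp in
theorem ppt_conj (h g : G) : ppt p (h * g * h⁻¹) = h * ppt p g * h⁻¹ := conj_pow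

omit [Finite G] hp in
theorem rpt_conj (h g : G) : rpt p (h * g * h⁻¹) = h * rpt p g * h⁻¹ := conj_pow

/-- Uniqueness of the decomposition. -/
theorem parts_of_eq {a b : G} (hc : Commute a b) {k : ℕ} (ha : a ^ p ^ k = 1)
    (hb : ¬ p ∣ orderOf b) : ppt p (a * b) = a ∧ rpt p (a * b) = b := by
  constructor
  · rw [ppt, hc.mul_pow]
    change ppt p a * ppt p b = a
    rw [ppt_eq_self_of_ppower ha, ppt_eq_one_of_regular hb, mul_one]
  · rw [rpt, hc.mul_pow]
    change rpt p a * rpt p b = b
    rw [rpt_eq_one_of_ppower ha, rpt_eq_self_of_regular hb, one_mul]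

/-- Homomorphisms commute with both parts. -/
theorem map_parts {H : Type v} [Group H] [Finite H] (f : G →* H) (g : G) :
    ppt p (f g) = f (ppt p g) ∧ rpt p (f g) = f (rpt p g) := by
  conv => congr <;> (lhs; rw [← ppt_mul_rpt (p := p) g, map_mul])
  refine parts_of_eq ((commute_ppt_rpt g).map f) (k := (Nat.card G).factorization p) ?_ ?_
  · rw [← map_pow, ppt_pow_eq_one, map_one]
  · exact fun h => rpt_regular g (h.trans (orderOf_map_dvd f _))

/-- In a nilpotent group both parts are multiplicative. -/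
theorem parts_mul [Group.IsNilpotent G] (a b : G) :
    ppt p (a * b) = ppt p a * ppt p b ∧ rpt p (a * b) = rpt p a * rpt p b := by
  obtain ⟨S⟩ : Nonempty (Sylow p G) := inferInstance
  haveI hS : (S : Subgroup G).Normal := inferInstance
  obtain ⟨Q, hQmem, -, -⟩ := Blocks.Contrib.exists_regular_subgroup (G := G) p
  haveI hQ : Q.Normal := ⟨fun x hx g => by
    rw [hQmem] at hx ⊢
    rwa [← MulAut.conj_apply, (MulAut.conj g).orderOf_eq x]⟩
  have hdis : Disjoint (S : Subgroup G) Q := by
    rw [Subgroup.disjoint_def]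
    intro x hxS hxQ
    obtain ⟨k, hk⟩ := S.2 ⟨x, hxS⟩
    have h1 := ppt_eq_self_of_ppower (p := p) (g := x) (k := k) (by simpa using congrArg Subtype.val hk)
    rw [ppt_eq_one_of_regular ((hQmem x).1 hxQ)] at h1
    exact h1.symm
  have hp' : ∀ g : G, ppt p g ∈ (S : Subgroup G) := fun g => by
    have hz : IsPGroup p (Subgroup.zpowers (ppt p g)) := by
      obtain ⟨k, hk⟩ := ppt_isPPower (p := p) g
      exact IsPGroup.of_card (by rw [Nat.card_zpowers, hk])
    obtain ⟨T, hT⟩ := hz.exists_le_sylow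
    haveI := Sylow.unique_of_normal S hS
    rw [Subsingleton.elim T S] at hT
    exact hT (Subgroup.mem_zpowers _)
  have hr' : ∀ g : G, rpt p g ∈ Q := fun g => (hQmem _).2 (rpt_regular g)
  have hcomm : ∀ x ∈ (S : Subgroup G), ∀ y ∈ Q, Commute x y := fun x hx y hy =>
    Subgroup.commute_of_normal_of_disjoint _ _ hS hQ hdis x y hx hy
  have e : a * b = (ppt p a * ppt p b) * (rpt p a * rpt p b) := by
    conv_lhs => rw [← ppt_mul_rpt (p := p) a, ← ppt_mul_rpt (p := p) b]
    rw [mul_assoc, mul_assoc, ← mul_assoc (rpt p a),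
      ← (hcomm _ (hp' b) _ (hr' a)).eq, mul_assoc]
  rw [e]
  obtain ⟨k, hk⟩ := S.2 ⟨_, mul_mem (hp' a) (hp' b)⟩
  refine parts_of_eq (hcomm _ (mul_mem (hp' a) (hp' b)) _ (mul_mem (hr' a) (hr' b))) (k := k)
    (by simpa using congrArg Subtype.val hk) fun h => ?_
  exact (hQmem _).1 (mul_mem (hr' a) (hr' b)) h

/-- The `p`-part as a homomorphism on a nilpotent subgroup. -/
noncomputable def pptHom (E : Subgroup G) [Group.IsNilpotent E] : E →* G where
  toFun e := ppt p (e : G)
  map_one' := ppt_one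
  map_mul' a b := by
    change ppt p (E.subtype (a * b)) = ppt p (E.subtype a) * ppt p (E.subtype b)
    rw [(map_parts E.subtype (a * b)).1, (map_parts E.subtype a).1, (map_parts E.subtype b).1,
      (parts_mul a b).1, map_mul]

/-- The `p'`-part as a homomorphism on a nilpotent subgroup. -/
noncomputable def rptHom (E : Subgroup G) [Group.IsNilpotent E] : E →* G where
  toFun e := rpt p (e : G)
  map_one' := one_pow _
  map_mul' a b := by
    change rpt p (E.subtype (a * b)) = rpt p (E.subtype a) * rpt p (E.subtype b)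
    rw [(map_parts E.subtype (a * b)).2, (map_parts E.subtype a).2, (map_parts E.subtype b).2,
      (parts_mul a b).2, map_mul]

end Parts

section Gen

variable {G : Type u} [Group G]

theorem gen_comp {H : Type v} [Group H] (f : H →* G) {θ : G → ℂ}
    (hθ : Cfsg.IsGeneralizedCharacter G θ) : Cfsg.IsGeneralizedCharacter H (θ ∘ f) := by
  obtain ⟨a, b, ha, hb, rfl⟩ := hθ
  exact ⟨a ∘ f, b ∘ f, Characters.Basic.isCharacter_comp f ha,
    Characters.Basic.isCharacter_comp f hb, rfl⟩

/-- A class function whose restrictions to the nilpotent subgroups are generalised characters is a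
generalised character. -/
theorem gen_of_nilpotent [Finite G] {θ : G → ℂ} (hcl : Cfsg.IsClassFunction G θ)
    (h : ∀ E : Subgroup G, Group.IsNilpotent E →
      Cfsg.IsGeneralizedCharacter E fun e : E => θ (e : G)) :
    Cfsg.IsGeneralizedCharacter G θ := by
  letI := Fintype.ofFinite G
  refine Brauer.Characterization.isGeneralized_of_mem
    (Brauer.Characterization.mem_of_elementary ℤ hcl fun E _ q hq hE => ?_)
  refine Submodule.span_mono ?_
    (Brauer.Monomial.genChar_mem (h E (Brauer.Monomial.isNilpotent_of_elementary hq hE)))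
  rintro f ⟨H, -, l, rfl⟩
  exact ⟨H, trivial, l, rfl⟩

/-- Composing a generalised character with the `p'`-part gives a generalised character. -/
theorem gen_comp_rpt [Finite G] {p : ℕ} [Fact p.Prime] {θ : G → ℂ}
    (hθ : Cfsg.IsGeneralizedCharacter G θ) :
    Cfsg.IsGeneralizedCharacter G fun g => θ (rpt p g) := by
  refine gen_of_nilpotent (fun g h => ?_) fun E hE => ?_
  · rw [rpt_conj]
    exact gen_classFun hθ (rpt p g) h
  · haveI := hE
    exact gen_comp (rptHom (p := p) E) hθ

end Gen

end Cfsg.Agent.Lib.SmithTyrer56
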