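import Cfsg.Agent.Lib.SmithTyrer56.Family

/-!
# The averages over the `p`-regular elements

`rr f` is `|G|⁻¹` times the sum of `f` over the `p`-regular elements.  The values `|P| rr ξ` of
the irreducible characters follow from the coherent family.
-/

set_option autoImplicit false
set_option linter.style.haveILetI false

namespace Cfsg.Agent.Lib.SmithTyrer56

open scoped ComplexConjugate
open Cfsg.Agent.Lib.Isometry.Inner Cfsg.Agent.Lib.Characters.Basic
  Cfsg.Agent.Lib.Characters.Linear
open Cfsg.Agent.Lib.Induced.Basic (classInner_add_left classInner_add_right classInner_sub_left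
  classInner_sub_right classInner_smul_left classInner_smul_right classInner_conj_symm)

universe u

variable {G : Type u} [Group G] {p : ℕ}

/-- The average over the group of the restriction to the `p`-regular elements. -/
noncomputable def rr [Fintype G] (p : ℕ) (f : G → ℂ) : ℂ :=
  (Nat.card G : ℂ)⁻¹ * ∑ g : G, if p ∣ orderOf g then 0 else f g

theorem rr_congr [Fintype G] {f f' : G → ℂ} (h : ∀ g, ¬ p ∣ orderOf g → f g = f' g) :
    rr p f = rr p f' := by
  refine congrArg (_ * ·) (Finset.sum_congr rfl fun g _ => ?_)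
  split_ifs with hg
  · rfl
  · exact h g hg

theorem rr_add [Fintype G] (f f' : G → ℂ) : rr p (f + f') = rr p f + rr p f' := by
  simp only [rr, ← mul_add, ← Finset.sum_add_distrib, Pi.add_apply]
  refine congrArg (_ * ·) (Finset.sum_congr rfl fun g _ => ?_)
  split_ifs <;> simp

theorem rr_smul [Fintype G] (c : ℂ) (f : G → ℂ) : rr p (c • f) = c * rr p f := by
  rw [rr, rr, mul_left_comm c]
  simp only [Finset.mul_sum]
  refine Finset.sum_congr rfl fun g _ => ?_
  rw [Pi.smul_apply, smul_eq_mul]
  split_ifs <;> simp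

theorem rr_sum [Fintype G] {ι : Type*} (s : Finset ι) (f : ι → G → ℂ) :
    rr p (∑ i ∈ s, f i) = ∑ i ∈ s, rr p (f i) := by
  classical
  induction s using Finset.induction_on with
  | empty => simp [rr]
  | insert a s ha ih => rw [Finset.sum_insert ha, Finset.sum_insert ha, rr_add, ih]

variable [Finite G] [hp : Fact p.Prime] {P : Sylow p G}

namespace Setting

variable (hS : Setting P)
include hS

theorem rep_eq_one_iff (g : G) : rep P g = 1 ↔ ¬ p ∣ orderOf g := by
  have hr := (exists_rep P g).choose_spec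
  rw [← ppt_eq_one_iff (p := p), ← OneMemClass.coe_eq_one]
  show (exists_rep P g).choose * ppt p g * (exists_rep P g).choose⁻¹ = 1 ↔ _
  exact conj_eq_one_iff

open scoped Classical in
theorem sum_lift_fl [Fintype (↥(P : Subgroup G) →* ℂˣ)] (g : G) :
    ∑ lam : ↥(P : Subgroup G) →* ℂˣ, lift P (fl P lam) g =
      if p ∣ orderOf g then 2 * (Nat.card (P : Subgroup G) : ℂ) else 0 := by
  simp only [lift, fl, Finset.sum_sub_distrib, Finset.sum_const, Finset.card_univ, nsmul_eq_mul,
    ← Nat.card_eq_fintype_card, hS.card_dual]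
  by_cases h : p ∣ orderOf g
  · have h1 : rep P g ≠ 1 := fun e => (hS.rep_eq_one_iff g).1 e h
    rw [if_pos h, hS.sum_dual h1, hS.sum_dual (inv_ne_one.2 h1)]
    ring
  · have h1 : rep P g = 1 := (hS.rep_eq_one_iff g).2 h
    rw [if_neg h, h1]
    simp [← Nat.card_eq_fintype_card, hS.card_dual]
    ring

/-- The regular average from the inner products with the lifts. -/
theorem two_card_rr [Fintype G] [Fintype (↥(P : Subgroup G) →* ℂˣ)] (f : G → ℂ) :
    2 * (Nat.card (P : Subgroup G) : ℂ) * rr p f =
      2 * (Nat.card (P : Subgroup G) : ℂ) * Cfsg.classInner f (1 : G → ℂ) -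
        ∑ lam : ↥(P : Subgroup G) →* ℂˣ, Cfsg.classInner f (lift P (fl P lam)) := by
  classical
  have hreal : ∀ (lam : ↥(P : Subgroup G) →* ℂˣ) (g : G),
      conj (lift P (fl P lam) g) = lift P (fl P lam) g := fun lam g => conj_fl lam _
  simp only [rr, Cfsg.classInner, hreal, ← Finset.mul_sum]
  rw [Finset.sum_comm (s := (Finset.univ : Finset (↥(P : Subgroup G) →* ℂˣ)))]
  simp only [← Finset.mul_sum, hS.sum_lift_fl, Pi.one_apply, map_one, mul_one]
  rw [← sub_eq_zero]
  simp only [Finset.mul_sum, ← Finset.sum_sub_distrib]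
  refine Finset.sum_eq_zero fun g _ => ?_
  split_ifs <;> ring

end Setting

/-- The number `b` with `|P| = 2b + 1`. -/
noncomputable def halfCard (P : Sylow p G) : ℕ := Nat.card (P : Subgroup G) / 2

omit [Finite G] in
theorem Setting.card_eq [Finite G] (hS : Setting P) :
    Nat.card (P : Subgroup G) = 2 * halfCard P + 1 ∧ 4 ≤ halfCard P := by
  obtain ⟨h9, ho⟩ := hS.card_P
  exact ⟨ho, by unfold halfCard; omega⟩

namespace Fam

variable (hS : Setting P) (F : Fam P)
include hS

open scoped Classical in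
theorem inner_theta [Fintype G] (lam : Lin P) (ξ : Cfsg.IrrCharacter G) :
    Cfsg.classInner (theta P lam.1) (ξ : G → ℂ) =
      (if ξ = F.ψ then (F.σ : ℂ) else 0) - if ξ = F.χ lam then (F.e lam : ℂ) else 0 := by
  rw [F.eq lam, classInner_sub_left, classInner_smul_left, classInner_smul_left, classInner_irr,
    classInner_irr]
  simp only [eq_comm (a := F.ψ), eq_comm (a := F.χ lam), mul_ite, mul_one, mul_zero]

theorem χ_ne_one (lam : Lin P) : F.χ lam ≠ oneChar G ∧ F.ψ ≠ oneChar G := by
  classical
  letI := Fintype.ofFinite G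
  have h0 : Cfsg.classInner (theta P lam.1) ((oneChar G : Cfsg.IrrCharacter G) : G → ℂ) = 0 :=
    (hS.theta_inner lam.2 lam.2).2
  rw [F.inner_theta hS lam] at h0
  refine ⟨fun h => ?_, fun h => ?_⟩
  · rw [if_neg (fun e => F.χ_ne lam (h.trans e)), if_pos h.symm, zero_sub, neg_eq_zero] at h0
    rcases F.e_pm lam with e | e <;> rw [e] at h0 <;> norm_num at h0
  · rw [if_pos h.symm, if_neg (fun e => F.χ_ne lam (e.symm.trans h.symm)), sub_zero] at h0
    rcases F.σ_pm with e | e <;> rw [e] at h0 <;> norm_num at h0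

theorem exists_lin : Nonempty (Lin P) := by
  haveI := hS.finite_dual
  by_contra hc
  haveI : Subsingleton (↥(P : Subgroup G) →* ℂˣ) :=
    ⟨fun a b => by
      have : ∀ m : ↥(P : Subgroup G) →* ℂˣ, m = 1 := fun m => by
        by_contra hm
        exact hc ⟨⟨m, hm⟩⟩
      rw [this a, this b]⟩
  have := hS.card_P.1
  rw [← hS.card_dual, Nat.card_unique] at this
  omega

theorem ψ_ne_one : F.ψ ≠ oneChar G :=
  (F.χ_ne_one hS (exists_lin hS).some).2

theorem χ_eq_iff (lam mu : Lin P) : F.χ lam = F.χ mu ↔ lam.1 = mu.1 ∨ lam.1 = mu.1⁻¹ := by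
  classical
  letI := Fintype.ofFinite G
  constructor
  · intro h
    by_contra hne
    have h1 := (hS.theta_inner lam.2 mu.2).1
    rw [if_neg hne, add_zero, F.eq mu, classInner_sub_right, classInner_smul_right,
      classInner_smul_right, F.inner_theta hS lam, F.inner_theta hS lam, if_pos rfl,
      if_neg (F.χ_ne lam).symm, if_neg (F.χ_ne mu), if_pos h.symm] at h1
    rcases F.σ_pm with a | a <;> rcases F.e_pm lam with c | c <;>
      rcases F.e_pm mu with d | d <;> rw [a, c, d] at h1 <;> norm_num at h1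
  · intro h
    have ht : theta P lam.1 = theta P mu.1 := by
      rcases h with h | h
      · rw [h]
      · rw [theta, h, fl_inv]; rfl
    have h1 := F.inner_theta hS mu (F.χ lam)
    rw [← ht, F.inner_theta hS lam, if_neg (F.χ_ne lam), if_pos rfl] at h1
    by_contra hne
    rw [if_neg hne] at h1
    rcases F.e_pm lam with c | c <;> rw [c] at h1 <;> norm_num at h1

theorem e_eq_of_χ_eq {lam mu : Lin P} (h : F.χ lam = F.χ mu) : F.e lam = F.e mu := by
  classical
  letI := Fintype.ofFinite G
  have ht : theta P lam.1 = theta P mu.1 := by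
    rcases (F.χ_eq_iff hS lam mu).1 h with h' | h'
    · rw [h']
    · rw [theta, h', fl_inv]; rfl
  have h1 := F.inner_theta hS mu (F.χ lam)
  rw [← ht, F.inner_theta hS lam, if_neg (F.χ_ne lam), if_pos rfl, if_pos h] at h1
  simpa using h1

open scoped Classical in
/-- Every fibre of `χ` has two elements. -/
theorem card_fibre [Fintype (Lin P)] (lam : Lin P) :
    (Finset.univ.filter fun mu : Lin P => F.χ lam = F.χ mu).card = 2 := by
  have hinv : lam.1⁻¹ ≠ 1 :=
    fun h => lam.2 (MonoidHom.ext fun x => inv_eq_one.1 (DFunLike.congr_fun h x))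
  rw [Finset.card_eq_two]
  refine ⟨lam, ⟨lam.1⁻¹, hinv⟩, fun h => hS.inv_lin_ne lam.2 (congrArg Subtype.val h).symm, ?_⟩
  ext mu
  simp only [Finset.mem_filter, Finset.mem_univ, true_and, Finset.mem_insert,
    Finset.mem_singleton, F.χ_eq_iff hS, Subtype.ext_iff]
  constructor
  · rintro (h | h)
    · exact Or.inl h.symm
    · exact Or.inr (by rw [h]; exact MonoidHom.ext fun x => (inv_inv _).symm)
  · rintro (h | h)
    · exact Or.inl h.symm
    · exact Or.inr (by rw [h]; exact MonoidHom.ext fun x => (inv_inv _).symm)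

open scoped Classical in
/-- The sum of `e` over the fibre, halved: `e` at a member of the family, zero elsewhere. -/
noncomputable def eta (F : Fam P) (ξ : Cfsg.IrrCharacter G) : ℤ :=
  if h : ∃ lam : Lin P, F.χ lam = ξ then F.e h.choose else 0

theorem eta_χ (lam : Lin P) : F.eta (F.χ lam) = F.e lam := by
  have h : ∃ mu : Lin P, F.χ mu = F.χ lam := ⟨lam, rfl⟩
  rw [eta, dif_pos h]
  exact F.e_eq_of_χ_eq hS h.choose_spec

omit hS in
theorem eta_of_not {ξ : Cfsg.IrrCharacter G} (h : ∀ lam, F.χ lam ≠ ξ) : F.eta ξ = 0 := by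
  rw [eta, dif_neg (not_exists.2 h)]

open scoped Classical in
theorem card_image [Fintype (Lin P)] : (Finset.univ.image F.χ).card = halfCard P := by
  haveI := hS.finite_dual
  letI := Fintype.ofFinite (↥(P : Subgroup G) →* ℂˣ)
  have h1 : Fintype.card (Lin P) = 2 * halfCard P := by
    rw [Fintype.card_subtype_compl, Fintype.card_subtype_eq, ← Nat.card_eq_fintype_card,
      hS.card_dual, hS.card_eq.1]
    omega
  have h2 := Finset.card_eq_sum_card_image F.χ (Finset.univ : Finset (Lin P))
  rw [Finset.sum_const_nat (m := 2) fun ξ hξ => ?_, Finset.card_univ, h1] at h2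
  · omega
  · obtain ⟨lam, -, rfl⟩ := Finset.mem_image.1 hξ
    rw [← F.card_fibre hS lam]
    exact congrArg Finset.card (Finset.filter_congr fun mu _ => eq_comm)

open scoped Classical in
theorem sum_theta [Fintype G] [Fintype (Lin P)] (ξ : Cfsg.IrrCharacter G) :
    ∑ lam : Lin P, Cfsg.classInner (theta P lam.1) (ξ : G → ℂ) =
      (if ξ = F.ψ then 2 * (halfCard P : ℂ) * (F.σ : ℂ) else 0) - 2 * (F.eta ξ : ℂ) := by
  simp only [F.inner_theta hS, Finset.sum_sub_distrib, Finset.sum_const, Finset.card_univ,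
    nsmul_eq_mul]
  have hcard : Fintype.card (Lin P) = 2 * halfCard P := by
    haveI := hS.finite_dual
    letI := Fintype.ofFinite (↥(P : Subgroup G) →* ℂˣ)
    rw [Fintype.card_subtype_compl, Fintype.card_subtype_eq, ← Nat.card_eq_fintype_card,
      hS.card_dual, hS.card_eq.1]
    omega
  congr 1
  · rw [hcard]; split_ifs <;> push_cast <;> ring
  · by_cases h : ∃ lam, F.χ lam = ξ
    · obtain ⟨lam, rfl⟩ := h
      rw [← Finset.sum_filter, F.eta_χ hS, Finset.sum_congr rfl
        (g := fun _ => (F.e lam : ℂ)) (fun mu hmu => ?_), Finset.sum_const,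
        nsmul_eq_mul]
      · rw [show (Finset.univ.filter fun mu : Lin P => F.χ lam = F.χ mu).card = 2 by
          convert F.card_fibre hS lam]
        norm_num
      · rw [F.e_eq_of_χ_eq hS (Finset.mem_filter.1 hmu).2]
    · rw [F.eta_of_not (not_exists.1 h)]
      simp only [Int.cast_zero, mul_zero]
      exact Finset.sum_eq_zero fun lam _ => if_neg fun e => h ⟨lam, e.symm⟩

open scoped Classical in
/-- The value of `|P| rr` at an irreducible character. -/
theorem card_mul_rr [Fintype G] (ξ : Cfsg.IrrCharacter G) :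
    (Nat.card (P : Subgroup G) : ℂ) * rr p (ξ : G → ℂ) =
      (if ξ = oneChar G then (halfCard P : ℂ) + 1 else 0) -
        (if ξ = F.ψ then (halfCard P : ℂ) * (F.σ : ℂ) else 0) + (F.eta ξ : ℂ) := by
  haveI := hS.finite_dual
  letI := Fintype.ofFinite (↥(P : Subgroup G) →* ℂˣ)
  have hone : (1 : G → ℂ) = ((oneChar G : Cfsg.IrrCharacter G) : G → ℂ) := rfl
  have h1 : ∀ lam : Lin P, Cfsg.classInner (ξ : G → ℂ) (lift P (fl P lam.1)) =
      Cfsg.classInner (theta P lam.1) (ξ : G → ℂ) + if ξ = oneChar G then 1 else 0 := fun lam => by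
    have e : lift P (fl P lam.1) = theta P lam.1 + (1 : G → ℂ) := (sub_add_cancel _ _).symm
    rw [e, classInner_add_right, classInner_gen_comm (gen_of_irr ξ.2) (hS.theta_gen lam.1), hone,
      classInner_irr]
  have h0 : Cfsg.classInner (ξ : G → ℂ) (lift P (fl P 1)) = 0 := by
    have : lift P (fl P (1 : ↥(P : Subgroup G) →* ℂˣ)) = 0 := by
      funext g; simp [lift, fl]; norm_num
    rw [this, classInner_zero_right]
  have h := hS.two_card_rr (ξ : G → ℂ)
  rw [← Finset.add_sum_erase _ _ (Finset.mem_univ (1 : ↥(P : Subgroup G) →* ℂˣ)), h0, zero_add,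
    Finset.sum_subtype (p := fun m : ↥(P : Subgroup G) →* ℂˣ => m ≠ 1) _ (fun m => by simp),
    Finset.sum_congr rfl (fun lam _ => h1 lam), Finset.sum_add_distrib, F.sum_theta hS,
    Finset.sum_const, Finset.card_univ, Fintype.card_subtype_compl, Fintype.card_subtype_eq,
    ← Nat.card_eq_fintype_card, hS.card_dual, hone, classInner_irr, hS.card_eq.1] at h
  rw [hS.card_eq.1]
  simp only [nsmul_eq_mul, add_tsub_cancel_right] at h
  push_cast at h ⊢
  apply mul_left_cancel₀ (two_ne_zero' ℂ)
  rw [← mul_assoc, h]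
  split_ifs <;> ring

/-- The value of a member of the family at a regular element. -/
theorem χ_regular (lam : Lin P) {g : G} (hg : ¬ p ∣ orderOf g) :
    (F.χ lam : G → ℂ) g = (F.e lam : ℂ) * (1 + (F.σ : ℂ) * (F.ψ : G → ℂ) g) := by
  have h := congrFun (F.eq lam) g
  rw [hS.theta_regular lam.1 hg] at h
  simp only [Pi.sub_apply, Pi.smul_apply, smul_eq_mul] at h
  rcases F.e_pm lam with c | c <;> rw [c] at h ⊢ <;> push_cast at h ⊢ <;>
    first | linear_combination h | linear_combination -h

end Fam

end Cfsg.Agent.Lib.SmithTyrer56
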