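import Cfsg.Agent.Lib.SmithTyrer56.Parts
import Cfsg.Prelude.Def_Local
import Mathlib.GroupTheory.Transfer

/-!
# Abelian Sylow subgroups on which the normaliser acts as `± 1`

The standing hypotheses, fusion in `P`, the centralisers of the non-identity elements of `P`, and
the lift of an even function on `P` to a class function on `G`.
-/

set_option autoImplicit false
set_option linter.style.haveILetI false

namespace Cfsg.Agent.Lib.SmithTyrer56

open scoped ComplexConjugate
open Cfsg.Agent.Lib.Isometry.Inner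

universe u

/-- A Sylow subgroup whose normaliser centralises it has a normal complement, consisting of the
elements of order prime to `p`. -/
theorem core_of_norm_central {H : Type u} [Group H] [Finite H] {p : ℕ} [Fact p.Prime]
    (Q : Sylow p H)
    (hQ : Subgroup.normalizer ((Q : Subgroup H) : Set H) ≤
      Subgroup.centralizer ((Q : Subgroup H) : Set H)) :
    (∀ h : H, h ∈ Cfsg.pPrimeCore p H ↔ ¬ p ∣ orderOf h) ∧
      Nat.card (Cfsg.pPrimeCore p H) * Nat.card (Q : Subgroup H) = Nat.card H := by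
  have hp : p.Prime := Fact.out
  set f := MonoidHom.transferSylow Q hQ
  have hker : ¬ p ∣ Nat.card f.ker := MonoidHom.not_dvd_card_ker_transferSylow Q hQ
  have hmem : ∀ h : H, ¬ p ∣ orderOf h → h ∈ f.ker := fun h hh => by
    obtain ⟨k, hk⟩ := Q.2 (f h)
    rw [MonoidHom.mem_ker, ← orderOf_eq_one_iff]
    exact Nat.eq_one_of_dvd_coprimes ((hp.coprime_iff_not_dvd.2 hh).pow_left k)
      (orderOf_dvd_of_pow_eq_one hk) (orderOf_map_dvd f h)
  have heq : Cfsg.pPrimeCore p H = f.ker := by
    refine le_antisymm (fun h hh => hmem h fun hd => ?_)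
      (Cores.le_pPrimeCore (hp.coprime_iff_not_dvd.2 hker).symm)
    exact Cores.not_dvd_card_pPrimeCore p (hd.trans ((Cfsg.pPrimeCore p H).orderOf_dvd_natCard hh))
  rw [heq]
  refine ⟨fun h => ⟨fun hh hd => hker (hd.trans (f.ker.orderOf_dvd_natCard hh)), hmem h⟩, ?_⟩
  exact (MonoidHom.ker_transferSylow_isComplement' Q hQ).card_mul

variable {G : Type u} [Group G] {p : ℕ}

/-- The standing hypotheses. -/
structure Setting (P : Sylow p G) : Prop where
  odd : p ≠ 2
  comm : ∀ x ∈ (P : Subgroup G), ∀ y ∈ (P : Subgroup G), x * y = y * x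
  notCyclic : ¬ IsCyclic (P : Subgroup G)
  core : Cfsg.pPrimeCore p G = ⊥
  inv : ∃ n : G, ∀ x ∈ (P : Subgroup G), n * x * n⁻¹ = x⁻¹
  pm : ∀ n ∈ Subgroup.normalizer ((P : Subgroup G) : Set G),
    (∀ x ∈ (P : Subgroup G), n * x * n⁻¹ = x) ∨ ∀ x ∈ (P : Subgroup G), n * x * n⁻¹ = x⁻¹

variable [Finite G] [hp : Fact p.Prime] {P : Sylow p G}

/-- An element of `P` conjugate to the `p`-part. -/
theorem exists_rep (P : Sylow p G) (g : G) : ∃ h : G, h * ppt p g * h⁻¹ ∈ (P : Subgroup G) := by
  have hz : IsPGroup p (Subgroup.zpowers (ppt p g)) := by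
    obtain ⟨k, hk⟩ := ppt_isPPower (p := p) g
    exact IsPGroup.of_card (by rw [Nat.card_zpowers, hk])
  obtain ⟨T, hT⟩ := hz.exists_le_sylow
  obtain ⟨h, hh⟩ := MulAction.exists_smul_eq G T P
  refine ⟨h, ?_⟩
  have hc : ((h • T : Sylow p G) : Subgroup G) = (T : Subgroup G).map (MulAut.conj h).toMonoidHom :=
    rfl
  rw [← hh, hc]
  exact Subgroup.mem_map_of_mem (MulAut.conj h).toMonoidHom (hT (Subgroup.mem_zpowers _))

/-- The chosen element of `P` conjugate to the `p`-part. -/
noncomputable def rep (P : Sylow p G) (g : G) : ↥(P : Subgroup G) :=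
  ⟨_, (exists_rep P g).choose_spec⟩

/-- An even function. -/
def IsEvenFun (P : Sylow p G) (f : ↥(P : Subgroup G) → ℂ) : Prop := ∀ x, f x⁻¹ = f x

/-- The lift of a function on `P`. -/
noncomputable def lift (P : Sylow p G) (f : ↥(P : Subgroup G) → ℂ) (g : G) : ℂ := f (rep P g)

namespace Setting

variable (hS : Setting P)
include hS

/-- Two elements of `P` conjugate in `G` are equal or mutually inverse. -/
theorem fusion {x y g : G} (hx : x ∈ (P : Subgroup G)) (hy : y ∈ (P : Subgroup G))
    (h : g * x * g⁻¹ = y) : y = x ∨ y = x⁻¹ := by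
  haveI : IsMulCommutative (P : Subgroup G) :=
    ⟨⟨fun a b => Subtype.ext (hS.comm a a.2 b b.2)⟩⟩
  obtain ⟨n, hn, hnx⟩ := P.conj_eq_normalizer_conj_of_mem x g⁻¹ hx (by rw [inv_inv, h]; exact hy)
  rw [inv_inv, h] at hnx
  rcases hS.pm n⁻¹ (inv_mem hn) with h1 | h1
  · left
    rw [hnx]
    simpa using h1 x hx
  · right
    rw [hnx]
    simpa using h1 x hx

omit [Finite G] in
theorem inv_ne_self {x : G} (hx : x ∈ (P : Subgroup G)) (hx1 : x ≠ 1) : x⁻¹ ≠ x := by
  intro h
  obtain ⟨k, hk⟩ := P.2 ⟨x, hx⟩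
  have hk' : x ^ p ^ k = 1 := by simpa using congrArg Subtype.val hk
  have h2 : x ^ 2 = 1 := by rw [sq]; nth_rw 1 [← h]; exact inv_mul_cancel x
  refine hx1 (orderOf_eq_one_iff.1 (Nat.eq_one_of_dvd_coprimes ?_
    (orderOf_dvd_of_pow_eq_one hk') (orderOf_dvd_of_pow_eq_one h2)))
  exact ((Nat.coprime_primes hp.out Nat.prime_two).2 hS.odd).pow_left k

omit [Finite G] in
theorem le_centralizer {x : G} (hx : x ∈ (P : Subgroup G)) :
    (P : Subgroup G) ≤ Subgroup.centralizer ({x} : Set G) := fun y hy =>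
  Subgroup.mem_centralizer_singleton_iff.2 (hS.comm y hy x hx)

/-- The centraliser of a non-identity element of `P` has a normal `p`-complement. -/
theorem centralizer_core {x : G} (hx : x ∈ (P : Subgroup G)) (hx1 : x ≠ 1) :
    (∀ k : Subgroup.centralizer ({x} : Set G),
      k ∈ Cfsg.pPrimeCore p (Subgroup.centralizer ({x} : Set G)) ↔ ¬ p ∣ orderOf k) ∧
      Nat.card (Cfsg.pPrimeCore p (Subgroup.centralizer ({x} : Set G))) *
          Nat.card (P : Subgroup G) =
        Nat.card (Subgroup.centralizer ({x} : Set G)) := by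
  set Q : Sylow p (Subgroup.centralizer ({x} : Set G)) := P.subtype (hS.le_centralizer hx)
  have hQ : ∀ y : Subgroup.centralizer ({x} : Set G),
      y ∈ (Q : Subgroup _) ↔ (y : G) ∈ (P : Subgroup G) := fun y => Iff.rfl
  have hn : Subgroup.normalizer ((Q : Subgroup ↥(Subgroup.centralizer ({x} : Set G))) : Set ↥(Subgroup.centralizer ({x} : Set G))) ≤
      Subgroup.centralizer ((Q : Subgroup ↥(Subgroup.centralizer ({x} : Set G))) : Set ↥(Subgroup.centralizer ({x} : Set G))) := by
    intro n hn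
    have hnP : (n : G) ∈ Subgroup.normalizer ((P : Subgroup G) : Set G) := by
      rw [Subgroup.mem_normalizer_iff]
      intro y
      constructor
      · intro hy
        exact (hQ _).1 ((Subgroup.mem_normalizer_iff.1 hn ⟨y, hS.le_centralizer hx hy⟩).1 hy)
      · intro hy
        have hz := hS.le_centralizer hx hy
        have hy' : y ∈ Subgroup.centralizer ({x} : Set G) := by
          have h1 := mul_mem (mul_mem (inv_mem n.2) hz) n.2
          simpa [mul_assoc] using h1
        exact (hQ ⟨y, hy'⟩).1 ((Subgroup.mem_normalizer_iff.1 hn ⟨y, hy'⟩).2 hy)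
    rcases hS.pm _ hnP with h1 | h1
    · refine Subgroup.mem_centralizer_iff.2 fun y hy => Subtype.ext ?_
      have h2 := h1 y hy
      rw [mul_inv_eq_iff_eq_mul] at h2
      exact h2.symm
    · refine absurd ?_ (hS.inv_ne_self hx hx1)
      have h2 : (n : G) * x = x * n := Subgroup.mem_centralizer_singleton_iff.1 n.2
      rw [← h1 x hx, h2, mul_inv_cancel_right]
  obtain ⟨h1, h2⟩ := core_of_norm_central Q hn
  refine ⟨h1, ?_⟩
  rw [← Nat.card_congr (Subgroup.subgroupOfEquivOfLe (hS.le_centralizer hx)).toEquiv]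
  exact h2

/-- The centraliser of a non-identity element of `P` is `p`-solvable. -/
theorem centralizer_pSolvable {x : G} (hx : x ∈ (P : Subgroup G)) (hx1 : x ≠ 1) :
    Cfsg.IsPSolvable p (Subgroup.centralizer ({x} : Set G)) := by
  set C := Subgroup.centralizer ({x} : Set G)
  set K := Cfsg.pPrimeCore p C
  refine ⟨2, ![⊥, K, ⊤], rfl, rfl, ?_, ?_, ?_⟩
  · rw [Fin.monotone_iff_le_succ]
    intro i
    fin_cases i
    · exact bot_le
    · exact le_top
  · intro i
    fin_cases i
    · exact Subgroup.normal_bot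
    · exact Cfsg.pPrimeCore_normal p C
    · exact Subgroup.normal_top
  · intro i
    fin_cases i
    · right
      show ((⊥ : Subgroup C).relIndex K).Coprime p
      rw [Subgroup.relIndex_bot_left]
      exact Cores.pPrimeCore_coprime p
    · left
      obtain ⟨m, hm⟩ := IsPGroup.iff_card.1 P.2
      refine ⟨m, ?_⟩
      show K.relIndex (⊤ : Subgroup C) = p ^ m
      rw [Subgroup.relIndex_top_right]
      have h1 := (hS.centralizer_core hx hx1).2
      rw [← K.card_mul_index] at h1
      rw [← hm]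
      exact (Nat.eq_of_mul_eq_mul_left Nat.card_pos h1).symm

/-- The lift is computed at any element of `P` conjugate to the `p`-part. -/
theorem lift_eq {f : ↥(P : Subgroup G) → ℂ} (hf : IsEvenFun P f) {g h : G}
    (hm : h * ppt p g * h⁻¹ ∈ (P : Subgroup G)) : lift P f g = f ⟨_, hm⟩ := by
  have h1 := (exists_rep P g).choose_spec
  set h0 := (exists_rep P g).choose
  have h2 : (h * h0⁻¹) * (h0 * ppt p g * h0⁻¹) * (h * h0⁻¹)⁻¹ = h * ppt p g * h⁻¹ := by group
  rcases hS.fusion h1 hm h2 with e | e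
  · exact congrArg f (Subtype.ext e.symm)
  · rw [lift, ← hf (rep P g)]
    exact congrArg f (Subtype.ext e.symm)

theorem lift_classFun {f : ↥(P : Subgroup G) → ℂ} (hf : IsEvenFun P f) :
    Cfsg.IsClassFunction G (lift P f) := by
  intro g h
  have hr := (exists_rep P g).choose_spec
  set h0 := (exists_rep P g).choose
  have e : (h0 * h⁻¹) * ppt p (h * g * h⁻¹) * (h0 * h⁻¹)⁻¹ = h0 * ppt p g * h0⁻¹ := by
    rw [ppt_conj]; group
  rw [hS.lift_eq hf (h := h0 * h⁻¹) (by rw [e]; exact hr), hS.lift_eq hf hr]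
  exact congrArg f (Subtype.ext e)

theorem lift_regular {f : ↥(P : Subgroup G) → ℂ} (hf : IsEvenFun P f) {g : G}
    (hg : ¬ p ∣ orderOf g) : lift P f g = f 1 := by
  have h1 : ppt p g = 1 := ppt_eq_one_of_regular hg
  rw [hS.lift_eq hf (h := 1) (by rw [h1]; simp)]
  exact congrArg f (Subtype.ext (by simp [h1]))

/-- The lift of an even generalised character is a generalised character. -/
theorem lift_gen {f : ↥(P : Subgroup G) → ℂ} (hf : IsEvenFun P f)
    (hgen : Cfsg.IsGeneralizedCharacter (P : Subgroup G) f) :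
    Cfsg.IsGeneralizedCharacter G (lift P f) := by
  refine gen_of_nilpotent (hS.lift_classFun hf) fun E hE => ?_
  haveI := hE
  have hR : IsPGroup p (pptHom (p := p) E).range := by
    rintro ⟨_, e, rfl⟩
    refine ⟨(Nat.card G).factorization p, Subtype.ext ?_⟩
    rw [SubgroupClass.coe_pow]
    exact ppt_pow_eq_one (p := p) (e : G)
  obtain ⟨T, hT⟩ := hR.exists_le_sylow
  obtain ⟨h, hh⟩ := MulAction.exists_smul_eq G T P
  have hc : ((h • T : Sylow p G) : Subgroup G) = (T : Subgroup G).map (MulAut.conj h).toMonoidHom :=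
    rfl
  have hmem : ∀ e : E, ((MulAut.conj h).toMonoidHom.comp (pptHom (p := p) E)) e ∈
      (P : Subgroup G) := fun e => by
    rw [← hh, hc]
    exact Subgroup.mem_map_of_mem (MulAut.conj h).toMonoidHom (hT ⟨e, rfl⟩)
  have := gen_comp (((MulAut.conj h).toMonoidHom.comp (pptHom (p := p) E)).codRestrict _ hmem) hgen
  convert this using 2 with e
  exact hS.lift_eq hf (hmem e)

end Setting

end Cfsg.Agent.Lib.SmithTyrer56
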