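import Cfsg.Agent.Lib.SmithTyrer56.Regular
import Cfsg.Agent.Lib.PIndexBlock.Criterion
import Cfsg.Agent.Lib.BenderSuzuki.TwoGroup.Section

/-!
# The values of `ψ` on the `p`-singular elements
-/

set_option autoImplicit false
set_option linter.style.haveILetI false

namespace Cfsg.Agent.Lib.SmithTyrer56

open scoped ComplexConjugate
open Cfsg.Agent.Lib.Isometry.Inner Cfsg.Agent.Lib.Characters.Basic
open Cfsg.Agent.Lib.Induced.Basic (classInner_add_left classInner_add_right classInner_sub_left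
  classInner_sub_right classInner_smul_left classInner_smul_right classInner_conj_symm)

universe u

variable {G : Type u} [Group G] [Finite G] {p : ℕ} [hp : Fact p.Prime] {P : Sylow p G}
  {M : Ideal Cfsg.AlgInt}

omit [Finite G] in
/-- A non-zero regular average puts a character in the principal block. -/
theorem mem_principal_of_rr [Fintype G] (hM : Cfsg.IsPModular p M) {ξ : Cfsg.IrrCharacter G}
    (h : rr p (ξ : G → ℂ) ≠ 0) : ξ ∈ Cfsg.principalBlock M G := by
  haveI : Finite G := inferInstance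
  rw [PIndexBlock.Criterion.mem_principalBlock_iff hM]
  intro h0
  refine h ?_
  rw [rr]
  convert mul_zero (Nat.card G : ℂ)⁻¹

namespace Fam

variable (hS : Setting P) (F : Fam P)
include hS

theorem half_ne_zero : (halfCard P : ℂ) ≠ 0 :=
  Nat.cast_ne_zero.mpr (by have := hS.card_eq.2; omega)

open scoped Classical in
theorem eta_ψ : F.eta F.ψ = 0 ∧ F.eta (oneChar G) = 0 :=
  ⟨F.eta_of_not fun lam => F.χ_ne lam, F.eta_of_not fun lam => (F.χ_ne_one hS lam).1⟩

theorem rr_ψ_ne_zero [Fintype G] : rr p (F.ψ : G → ℂ) ≠ 0 := by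
  classical
  intro h
  have h1 := F.card_mul_rr hS F.ψ
  rw [h, mul_zero, if_neg (F.ψ_ne_one hS), if_pos rfl, (F.eta_ψ hS).1] at h1
  rcases F.σ_pm with c | c <;> rw [c] at h1 <;>
    exact half_ne_zero hS (by simpa using h1.symm)

theorem ψ_principal (hM : Cfsg.IsPModular p M) : F.ψ ∈ Cfsg.principalBlock M G := by
  letI := Fintype.ofFinite G
  exact mem_principal_of_rr hM (F.rr_ψ_ne_zero hS)

/-- `ψ` is constant on the section of an element of `P`. -/
theorem ψ_eq_rep (hM : Cfsg.IsPModular p M) {g : G} (hg : p ∣ orderOf g) :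
    (F.ψ : G → ℂ) g = (F.ψ : G → ℂ) (rep P g : G) := by
  have hr := (exists_rep P g).choose_spec
  set h0 := (exists_rep P g).choose
  set x : G := h0 * ppt p g * h0⁻¹ with hxdef
  have hx1 : x ≠ 1 := fun e => ppt_eq_one_iff.1 (conj_eq_one_iff.1 e) hg
  set g' := h0 * g * h0⁻¹ with hg'
  have hpp : ppt p g' = x := ppt_conj h0 g
  have hrc : rpt p g' ∈ Subgroup.centralizer ({x} : Set G) := by
    rw [Subgroup.mem_centralizer_singleton_iff, ← hpp]
    exact (commute_ppt_rpt (p := p) g').eq.symm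
  have hK := (hS.centralizer_core hr hx1).1
  have hxC : x ∈ Subgroup.centralizer ({x} : Set G) :=
    Subgroup.mem_centralizer_singleton_iff.2 rfl
  obtain ⟨k, hk⟩ := P.2 ⟨x, hr⟩
  have hxp : x ^ p ^ k = 1 := by simpa using congrArg Subtype.val hk
  have hpart : Cfsg.IsPPart p (((⟨x, hxC⟩ : Subgroup.centralizer ({x} : Set G))) : G) x := by
    obtain ⟨j, hj⟩ : ∃ j : ℕ, orderOf x = p ^ j := by
      obtain ⟨j, -, hj⟩ := (Nat.dvd_prime_pow hp.out).1 (orderOf_dvd_of_pow_eq_one hxp)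
      exact ⟨j, hj⟩
    exact ⟨1, mul_one x, Commute.one_right x, ⟨j, hj⟩, by simp [hp.out.ne_one]⟩
  have h1 := BenderSuzuki.TwoGroup.apply_mul_core hM (hS.centralizer_pSolvable hr hx1) hpart
    (F.ψ_principal hS hM) (u := ⟨rpt p g', hrc⟩)
    ((hK _).2 (by rw [← Subgroup.orderOf_coe]; exact rpt_regular g'))
  have h2 : (F.ψ : G → ℂ) g' = (F.ψ : G → ℂ) g := isClassFunction_irr F.ψ g h0
  rw [← h2]
  show (F.ψ : G → ℂ) g' = (F.ψ : G → ℂ) x
  rw [← h1]
  simp only [← hpp, ppt_mul_rpt]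

theorem ψ_even (x : ↥(P : Subgroup G)) :
    (F.ψ : G → ℂ) ((x⁻¹ : ↥(P : Subgroup G)) : G) = (F.ψ : G → ℂ) (x : G) := by
  obtain ⟨n, hn⟩ := hS.inv
  rw [Subgroup.coe_inv, ← hn x x.2]
  exact isClassFunction_irr F.ψ (x : G) n

/-- `ψ` takes the value `σ` at every non-identity element of `P`. -/
theorem ψ_on_P (hM : Cfsg.IsPModular p M) {x0 : ↥(P : Subgroup G)} (hx0 : x0 ≠ 1) :
    (F.ψ : G → ℂ) (x0 : G) = (F.σ : ℂ) := by
  classical
  letI := Fintype.ofFinite G
  letI := Fintype.ofFinite ↥(P : Subgroup G)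
  haveI := hS.finite_dual
  letI := Fintype.ofFinite (↥(P : Subgroup G) →* ℂˣ)
  set Φ : ↥(P : Subgroup G) → ℂ := fun x => (F.ψ : G → ℂ) (x : G) with hΦ
  have hP : (2 : ℂ) * (Nat.card (P : Subgroup G) : ℂ) ≠ 0 :=
    mul_ne_zero two_ne_zero (Nat.cast_ne_zero.mpr Nat.card_pos.ne')
  have hG : (Nat.card G : ℂ) ≠ 0 := Nat.cast_ne_zero.mpr Nat.card_pos.ne'
  have key : ∀ lam : ↥(P : Subgroup G) →* ℂˣ,
      ∑ x : ↥(P : Subgroup G), ((F.σ : ℂ) * Φ x - 1) * fl P lam x = 0 := by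
    intro lam
    by_cases hlam : lam = 1
    · subst hlam
      refine Finset.sum_eq_zero fun x _ => ?_
      simp [fl]
      norm_num
    have e : lift P (fl P lam) = theta P lam + (1 : G → ℂ) := (sub_add_cancel _ _).symm
    have h1 : Cfsg.classInner (F.ψ : G → ℂ) (lift P (fl P lam)) = F.σ := by
      rw [e, classInner_add_right, classInner_gen_comm (gen_of_irr F.ψ.2) (hS.theta_gen lam),
        F.inner_theta hS ⟨lam, hlam⟩, if_pos rfl, if_neg (fun h => F.χ_ne ⟨lam, hlam⟩ h.symm),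
        sub_zero, show (1 : G → ℂ) = ((oneChar G : Cfsg.IrrCharacter G) : G → ℂ) from rfl,
        classInner_irr, if_neg (F.ψ_ne_one hS), add_zero]
    have h2 : Cfsg.classInner (F.ψ : G → ℂ) (lift P (fl P lam)) =
        Cfsg.classInner (lift P Φ) (lift P (fl P lam)) := by
      refine congrArg (_ * ·) (Finset.sum_congr rfl fun g _ => ?_)
      by_cases hg : p ∣ orderOf g
      · rw [show lift P Φ g = (F.ψ : G → ℂ) g from (F.ψ_eq_rep hS hM hg).symm]
      · simp [hS.lift_regular (fl_even P lam) hg, fl_one]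
    have h3 := hS.lift_fl_inner Φ (F.ψ_even hS) lam
    rw [← h2, h1] at h3
    have h4 : (F.σ : ℂ) * (F.σ : ℂ) = 1 := by rcases F.σ_pm with c | c <;> simp [c]
    simp only [sub_mul, one_mul, Finset.sum_sub_distrib, mul_assoc, ← Finset.mul_sum,
      hS.sum_fl hlam]
    rw [← h3]
    linear_combination (2 * (Nat.card (P : Subgroup G) : ℂ)) * h4
  set N := (Nat.card (P : Subgroup G) : ℂ)
  have hw : ∀ x : ↥(P : Subgroup G),
      ∑ lam : ↥(P : Subgroup G) →* ℂˣ, (lam x0⁻¹ : ℂ) * fl P lam x =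
        -(if x = x0 then N else 0) - (if x = x0⁻¹ then N else 0) := by
    intro x
    have hsum : ∀ y : ↥(P : Subgroup G), ∑ lam : ↥(P : Subgroup G) →* ℂˣ, (lam y : ℂ) =
        if y = 1 then N else 0 := fun y => by
      split_ifs with hy
      · subst hy
        simp only [map_one, Units.val_one, Finset.sum_const, nsmul_eq_mul, mul_one, N,
          Finset.card_univ, ← Nat.card_eq_fintype_card, hS.card_dual]
      · exact hS.sum_dual hy
    have h1 : ∀ lam : ↥(P : Subgroup G) →* ℂˣ, (lam x0⁻¹ : ℂ) * fl P lam x =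
        2 * (lam x0⁻¹ : ℂ) - (lam (x0⁻¹ * x) : ℂ) - (lam (x0⁻¹ * x⁻¹) : ℂ) := fun lam => by
      simp only [fl, map_mul, Units.val_mul]
      ring
    simp only [h1, Finset.sum_sub_distrib, ← Finset.mul_sum, hsum]
    rw [if_neg (inv_ne_one.2 hx0), mul_zero, zero_sub]
    congr 1
    · congr 1
      exact if_congr (inv_mul_eq_one.trans eq_comm) rfl rfl
    · refine if_congr ?_ rfl rfl
      rw [inv_mul_eq_one, inv_eq_iff_eq_inv.symm, eq_comm]
  have h0 : ∑ x : ↥(P : Subgroup G), ((F.σ : ℂ) * Φ x - 1) *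
      (∑ lam : ↥(P : Subgroup G) →* ℂˣ, (lam x0⁻¹ : ℂ) * fl P lam x) = 0 := by
    simp only [Finset.mul_sum]
    rw [Finset.sum_comm]
    refine Finset.sum_eq_zero fun lam _ => ?_
    rw [Finset.sum_congr rfl (g := fun x => (lam x0⁻¹ : ℂ) *
      (((F.σ : ℂ) * Φ x - 1) * fl P lam x)) fun x _ => mul_left_comm _ _ _, ← Finset.mul_sum,
      key, mul_zero]
  simp only [hw, mul_sub, mul_neg, mul_ite, mul_zero, Finset.sum_sub_distrib,
    Finset.sum_neg_distrib, Finset.sum_ite_eq', Finset.mem_univ, if_true] at h0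
  have he : Φ x0⁻¹ = Φ x0 := F.ψ_even hS x0
  rw [he] at h0
  have hN : N ≠ 0 := Nat.cast_ne_zero.mpr Nat.card_pos.ne'
  have h5 : (F.σ : ℂ) * Φ x0 - 1 = 0 := by
    apply mul_left_cancel₀ (mul_ne_zero two_ne_zero hN)
    linear_combination -h0
  show Φ x0 = _
  rcases F.σ_pm with c | c <;> rw [c] at h5 ⊢ <;> push_cast at h5 ⊢ <;>
    first | linear_combination h5 | linear_combination -h5

/-- `ψ` takes the value `σ` at every `p`-singular element. -/
theorem ψ_singular (hM : Cfsg.IsPModular p M) {g : G} (hg : p ∣ orderOf g) :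
    (F.ψ : G → ℂ) g = (F.σ : ℂ) := by
  rw [F.ψ_eq_rep hS hM hg]
  exact F.ψ_on_P hS hM fun e => (hS.rep_eq_one_iff g).1 e hg

/-- Regular averages against the conjugate of `ψ`. -/
theorem rr_mul_conj_ψ [Fintype G] (hM : Cfsg.IsPModular p M) (f : G → ℂ) :
    rr p (fun g => f g * conj ((F.ψ : G → ℂ) g)) =
      Cfsg.classInner f (F.ψ : G → ℂ) -
        (F.σ : ℂ) * (Cfsg.classInner f (1 : G → ℂ) - rr p f) := by
  have hG : (Nat.card G : ℂ)⁻¹ ≠ 0 := inv_ne_zero (Nat.cast_ne_zero.mpr Nat.card_pos.ne')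
  simp only [rr, Cfsg.classInner, Pi.one_apply, map_one, mul_one]
  simp only [Finset.mul_sum, ← Finset.sum_sub_distrib]
  refine Finset.sum_congr rfl fun g _ => ?_
  split_ifs with hg
  · rw [F.ψ_singular hS hM hg, map_intCast]
    ring
  · ring

end Fam

end Cfsg.Agent.Lib.SmithTyrer56
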